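import Cfsg.Agent.H320.Der.Ntc

/-!
# Classes of elements `x y`, `x` in a torus, `y` of prime order on the complement (helper320, S3502)
-/

set_option autoImplicit false
set_option linter.unusedSectionVars false

namespace Cfsg.Agent.H320.Der

open Polynomial Module Subgroup QuadraticMap Cfsg.Agent.H439.Der
open Cfsg.Agent.LieClassical.OrthCore Cfsg.Agent.LieClassical.OrthTrans
  Cfsg.Agent.H403.Classify Cfsg.Agent.H377 Cfsg.Agent.AutOrth.Main Cfsg.Agent.ClassicalGeometry.OrthAut1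
  Cfsg.Agent.LieClassical.QuadForms

section group

variable {T : Type*} [Group T]

theorem conj_mul {x y w : T} {N r : ℕ} (hN : N.Coprime r) (hx : x ^ N = 1) (hy : y ^ N = 1) (hw : w ^ r = 1)
    (hxw : Commute x w) (hyw : Commute y w) {φ : T ≃* T} (h : φ (x * w) = y * w) : φ x = y := by
  obtain ⟨u, hu1, hu2⟩ := Nat.chineseRemainder hN 1 0
  have hw' : w ^ u = 1 := by
    obtain ⟨c, hc⟩ := (Nat.modEq_zero_iff_dvd.1 hu2)
    rw [hc, pow_mul, hw, one_pow]
  have key : ∀ z : T, z ^ N = 1 → Commute z w → (z * w) ^ u = z := by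
    intro z hz hzw
    rw [hzw.mul_pow, hw', mul_one]
    have h1 : z ^ u = z ^ 1 := by
      rw [pow_eq_pow_iff_modEq]
      exact hu1.of_dvd (orderOf_dvd_of_pow_eq_one hz)
    rw [h1, pow_one]
  rw [← key x hx hxw, map_pow, h, key y hy hyw]

theorem dvd_orderOf_mul {x w : T} {N r s : ℕ} (hN : N.Coprime r) (hx : x ^ N = 1) (hw : orderOf w = r)
    (hxw : Commute x w) (hs : s ∣ orderOf x) : s * r ∣ orderOf (x * w) := by
  rw [hxw.orderOf_mul_eq_mul_orderOf_of_coprime (by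
    rw [hw]
    exact Nat.Coprime.coprime_dvd_left (orderOf_dvd_of_pow_eq_one hx) hN), hw]
  exact Nat.mul_dvd_mul_right hs r

theorem of_zpowers {g x w : T} (hgw : Commute g w) (hx : x ∈ zpowers g) : Commute x w := by
  obtain ⟨n, rfl⟩ := hx
  exact hgw.zpow_left n

theorem pow_of_zpowers {g x : T} {N : ℕ} (hg : orderOf g = N) (hx : x ∈ zpowers g) : x ^ N = 1 := by
  rw [← hg]
  exact orderOf_dvd_iff_pow_eq_one.1 (orderOf_dvd_of_mem_zpowers hx)

/-- three classes -/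
theorem Th.mul_of {g x y z w : T} {N r s : ℕ} (hN : N.Coprime r) (hg : orderOf g = N) (hw : orderOf w = r)
    (hgw : Commute g w) (hx : x ∈ zpowers g ∧ s ∣ orderOf x) (hy : y ∈ zpowers g ∧ s ∣ orderOf y)
    (hz : z ∈ zpowers g ∧ s ∣ orderOf z) (h1 : ∀ φ : T ≃* T, φ x ≠ y) (h2 : ∀ φ : T ≃* T, φ x ≠ z)
    (h3 : ∀ φ : T ≃* T, φ y ≠ z) : Th T (s * r) := by
  have hwr : w ^ r = 1 := by rw [← hw]; exact pow_orderOf_eq_one w
  refine ⟨x * w, y * w, z * w, ?_, ?_, ?_, fun φ h => h1 φ ?_, fun φ h => h2 φ ?_, fun φ h => h3 φ ?_⟩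
  · exact dvd_orderOf_mul hN (pow_of_zpowers hg hx.1) hw (of_zpowers hgw hx.1) hx.2
  · exact dvd_orderOf_mul hN (pow_of_zpowers hg hy.1) hw (of_zpowers hgw hy.1) hy.2
  · exact dvd_orderOf_mul hN (pow_of_zpowers hg hz.1) hw (of_zpowers hgw hz.1) hz.2
  · exact conj_mul hN (pow_of_zpowers hg hx.1) (pow_of_zpowers hg hy.1) hwr (of_zpowers hgw hx.1)
      (of_zpowers hgw hy.1) h
  · exact conj_mul hN (pow_of_zpowers hg hx.1) (pow_of_zpowers hg hz.1) hwr (of_zpowers hgw hx.1)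
      (of_zpowers hgw hz.1) h
  · exact conj_mul hN (pow_of_zpowers hg hy.1) (pow_of_zpowers hg hz.1) hwr (of_zpowers hgw hy.1)
      (of_zpowers hgw hz.1) h

/-- two classes of order `N r` -/
theorem Tw.mul_of {g x y w : T} {N r : ℕ} (hN : N.Coprime r) (hg : orderOf g = N) (hw : orderOf w = r)
    (hgw : Commute g w) (hx : x ∈ zpowers g ∧ N ∣ orderOf x) (hy : y ∈ zpowers g ∧ N ∣ orderOf y)
    (h1 : ∀ φ : T ≃* T, φ x ≠ y) : Tw T (N * r) := by
  have hwr : w ^ r = 1 := by rw [← hw]; exact pow_orderOf_eq_one w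
  have key : ∀ x : T, x ∈ zpowers g ∧ N ∣ orderOf x → orderOf (x * w) = N * r := by
    intro x hx
    have h2 : orderOf x = N := Nat.dvd_antisymm (by rw [← hg]; exact orderOf_dvd_of_mem_zpowers hx.1) hx.2
    rw [(of_zpowers hgw hx.1).orderOf_mul_eq_mul_orderOf_of_coprime (by rw [hw, h2]; exact hN), hw, h2]
  exact ⟨x * w, y * w, key x hx, key y hy, fun φ h => h1 φ
    (conj_mul hN (pow_of_zpowers hg hx.1) (pow_of_zpowers hg hy.1) hwr (of_zpowers hgw hx.1) (of_zpowers hgw hy.1) h)⟩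

/-- `Three` from a missing order -/
theorem Th.three {R : Subgroup T} [Finite T] {n : ℕ} (h : Th T n) (hR : ∀ x ∈ R, orderOf x ≠ n) :
    Three T R := by
  obtain ⟨x, y, z, hx, hy, hz, h1, h2, h3⟩ := h
  have key : ∀ x : T, n ∣ orderOf x → ∀ φ : T ≃* T, φ x ∉ R := by
    intro x hx φ hφ
    obtain ⟨c, hc⟩ := hx
    have hpos := orderOf_pos x
    have hc0 : c ≠ 0 := by
      rintro rfl
      omega
    refine hR (φ x ^ c) (R.pow_mem hφ c) ?_
    rw [orderOf_pow_of_dvd hc0 (by rw [MulEquiv.orderOf_eq, hc]; exact dvd_mul_left _ _), MulEquiv.orderOf_eq, hc,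
      Nat.mul_div_cancel _ (Nat.pos_of_ne_zero hc0)]
  exact ⟨x, y, z, key x hx, key y hy, key z hz, h1, h2, h3⟩

/-- `Three` from two classes of a missing order and another missing order -/
theorem Tw.three {R : Subgroup T} {a b : ℕ} (h : Tw T a) (hR : ∀ x ∈ R, orderOf x ≠ a) (hb : ∃ x : T, orderOf x = b)
    (hRb : ∀ x ∈ R, orderOf x ≠ b) (hab : a ≠ b) : Three T R := by
  obtain ⟨x, y, hx, hy, h1⟩ := h
  obtain ⟨z, hz⟩ := hb
  refine ⟨x, y, z, fun φ hφ => hR _ hφ ?_, fun φ hφ => hR _ hφ ?_, fun φ hφ => hRb _ hφ ?_, h1, fun φ hφ => hab ?_,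
    fun φ hφ => hab ?_⟩
  · rw [MulEquiv.orderOf_eq, hx]
  · rw [MulEquiv.orderOf_eq, hy]
  · rw [MulEquiv.orderOf_eq, hz]
  · rw [← hx, ← hz, ← hφ, MulEquiv.orderOf_eq]
  · rw [← hy, ← hz, ← hφ, MulEquiv.orderOf_eq]

end group

section

universe u

variable {F : Type u} [Field F] [Finite F]

theorem exists_E' {ι : Type} [Fintype ι] [DecidableEq ι] (Q : QuadraticForm F (ι → F)) (hG : Good Q)
    (h5 : 5 ≤ Fintype.card ι) {V : Type*} [AddCommGroup V] [Module F V] (Q' : V → F) (e : (ι → F) ≃ₗ[F] V)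
    (he : ∀ u, Q' (e u) = Q u) (T : Module.End F V) (hT : ∀ v, Q' (T v) = Q' v) {N : ℕ} (hN : Odd N) (hTN : T ^ N = 1) :
    ∃ z : ↥(E Q), ∀ x, lin z x = e.symm (T (e x)) := by
  obtain ⟨k, hk⟩ := hN
  have hpow : ∀ (j : ℕ) (v : V), Q' ((T ^ j) v) = Q' v := by
    intro j
    induction j with
    | zero => intro v; rfl
    | succ j ih => intro v; rw [pow_succ, Module.End.mul_apply, ih, hT]
  have hTT : ∀ v, (T ^ (k + 1)) ((T ^ (k + 1)) v) = T v := by
    intro v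
    rw [← Module.End.mul_apply, ← pow_add, show k + 1 + (k + 1) = N + 1 by omega, pow_succ, hTN, one_mul]
  obtain ⟨z0, hz0⟩ := exists_omega Q hG.nondeg h5 Q' e he (T ^ (k + 1)) (hpow _)
  refine ⟨oe hG z0, fun x => ?_⟩
  rw [lin_apply, oe_apply, hz0, hTT]

theorem lin_pow_apply {ι : Type} [Fintype ι] [DecidableEq ι] {Q : QuadraticForm F (ι → F)} {V : Type*}
    [AddCommGroup V] [Module F V] {e : (ι → F) ≃ₗ[F] V} {T : Module.End F V} {z : ↥(E Q)}
    (hz : ∀ x, lin z x = e.symm (T (e x))) (j : ℕ) (x : ι → F) : (lin z ^ j) x = e.symm ((T ^ j) (e x)) := by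
  induction j generalizing x with
  | zero => simp
  | succ j ih => rw [pow_succ, Module.End.mul_apply, ih, hz, pow_succ, Module.End.mul_apply, e.apply_symm_apply]

theorem orderOf_of_lin {ι : Type} [Fintype ι] [DecidableEq ι] {Q : QuadraticForm F (ι → F)} {V : Type*}
    [AddCommGroup V] [Module F V] {e : (ι → F) ≃ₗ[F] V} {T : Module.End F V} {z : ↥(E Q)}
    (hz : ∀ x, lin z x = e.symm (T (e x))) : orderOf z = orderOf T := by
  rw [← orderOf_lin, orderOf_eq_orderOf_iff]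
  intro n
  constructor
  · intro h
    refine LinearMap.ext fun v => ?_
    have h1 := lin_pow_apply hz n (e.symm v)
    rw [h, Module.End.one_apply, e.apply_symm_apply] at h1
    exact (e.symm.injective h1).symm
  · intro h
    refine LinearMap.ext fun x => ?_
    rw [lin_pow_apply hz, h]
    simp

/-- the pair of a torus element and an element on the complement -/
theorem torE_pair {ι : Type} [Fintype ι] [DecidableEq ι] {Q : QuadraticForm F (ι → F)} (hG : Good Q)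
    (h5 : 5 ≤ Fintype.card ι) {m a b N r : ℕ} {δ ε ε' : ℤ} (hb : 1 ≤ b) (hab : a + b = m) (hδ : ε * ε' = δ)
    (hcl : ∀ {V : Type u} [AddCommGroup V] [Module F V] [Finite V], Module.finrank F V = 2 * m →
      ∀ Q' : QuadraticForm F V, Nondeg Q' → HasSign (⇑Q') m δ → ∃ e : (ι → F) ≃ₗ[F] V, ∀ u, Q' (e u) = Q u)
    (hN : Odd N) (hr : Odd r) (h : EltS F b ε N) (h' : Elt F a ε' r) :
    ∃ z y : ↥(E Q), orderOf z = N ∧ HasEV (lin z) N ∧ finrank F (LinearMap.range (lin z - 1)) ≤ 2 * b ∧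
      orderOf y = r ∧ Commute z y := by
  obtain ⟨hN0, Q1, g, hQ1, hs, hg, ho, hsr⟩ := h
  obtain ⟨hr0, Q2, g2, hQ2, hs2, hg2, ho2⟩ := h'
  have : Nonempty (Fin (2 * b)) := ⟨⟨0, by omega⟩⟩
  have hev : HasEV g N := hasEV_of_semi hN0 ho hsr
  have hgN : g ^ N = 1 := by rw [← ho]; exact pow_orderOf_eq_one g
  have hgr : g2 ^ r = 1 := by rw [← ho2]; exact pow_orderOf_eq_one g2
  have hs' := hs.prod hs2
  rw [hδ, show b + a = m by omega] at hs'
  obtain ⟨e, he⟩ := hcl (V := (Fin (2 * b) → F) × (Fin (2 * a) → F)) (by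
    rw [Module.finrank_prod, Module.finrank_fin_fun, Module.finrank_fin_fun]; omega) (sumQ Q1 Q2)
    (sumQ_nondeg hQ1 hQ2) hs'
  have hT1 : ∀ v, sumQ Q1 Q2 ((g.prodMap (1 : Module.End F (Fin (2 * a) → F))) v) = sumQ Q1 Q2 v := by
    intro v
    rw [sumQ_apply, sumQ_apply, LinearMap.prodMap_apply, hg]
    rfl
  have hT2 : ∀ v, sumQ Q1 Q2 (((1 : Module.End F (Fin (2 * b) → F)).prodMap g2) v) = sumQ Q1 Q2 v := by
    intro v
    rw [sumQ_apply, sumQ_apply, LinearMap.prodMap_apply, hg2]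
    rfl
  have hT1N : (g.prodMap (1 : Module.End F (Fin (2 * a) → F)) :
      Module.End F ((Fin (2 * b) → F) × (Fin (2 * a) → F))) ^ N = 1 := by
    rw [prodMap_pow', hgN, one_pow]
    rfl
  have hT2r : ((1 : Module.End F (Fin (2 * b) → F)).prodMap g2 :
      Module.End F ((Fin (2 * b) → F) × (Fin (2 * a) → F))) ^ r = 1 := by
    rw [prodMap_pow', hgr, one_pow]
    rfl
  obtain ⟨z, hz⟩ := exists_E' Q hG h5 (⇑(sumQ Q1 Q2)) e he _ hT1 hN hT1N
  obtain ⟨y, hy⟩ := exists_E' Q hG h5 (⇑(sumQ Q1 Q2)) e he _ hT2 hr hT2r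
  refine ⟨z, y, ?_, ?_, ?_, ?_, ?_⟩
  · rw [orderOf_of_lin hz]
    exact (orderOf_prodMap g 1).trans (by rw [orderOf_one, Nat.lcm_one_right, ho])
  · refine HasEV.embed (g := g)
      (i := (e.symm : _ →ₗ[F] (ι → F)).comp (LinearMap.inl F (Fin (2 * b) → F) (Fin (2 * a) → F)))
      (fun u v huv => ?_) ?_ hev
    · rw [LinearMap.comp_apply, LinearMap.comp_apply, LinearEquiv.coe_coe] at huv
      exact LinearMap.inl_injective (e.symm.injective huv)
    intro w
    rw [LinearMap.comp_apply, LinearMap.comp_apply, LinearEquiv.coe_coe, hz, e.apply_symm_apply]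
    simp
  · have h1 : LinearMap.range (lin z - 1) ≤
        LinearMap.range ((e.symm : _ →ₗ[F] (ι → F)).comp (LinearMap.inl F (Fin (2 * b) → F) (Fin (2 * a) → F))) := by
      rintro _ ⟨x, rfl⟩
      refine ⟨g (e x).1 - (e x).1, ?_⟩
      rw [LinearMap.comp_apply, LinearEquiv.coe_coe, LinearMap.sub_apply, hz, Module.End.one_apply]
      apply e.injective
      rw [e.apply_symm_apply]
      refine Eq.trans ?_ (map_sub e _ _).symm
      rw [e.apply_symm_apply]
      simp [LinearMap.prodMap_apply, Prod.ext_iff]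
    refine (Submodule.finrank_mono h1).trans ((LinearMap.finrank_range_le _).trans ?_)
    rw [Module.finrank_fin_fun]
  · rw [orderOf_of_lin hy]
    exact (orderOf_prodMap 1 g2).trans (by rw [orderOf_one, Nat.lcm_one_left, ho2])
  · apply lin_injective
    rw [map_mul, map_mul]
    refine LinearMap.ext fun x => ?_
    rw [Module.End.mul_apply, Module.End.mul_apply, hz, hy, hy, hz, e.apply_symm_apply, e.apply_symm_apply]
    simp [LinearMap.prodMap_apply]

theorem exists_th {ι : Type} [Fintype ι] [DecidableEq ι] {Q : QuadraticForm F (ι → F)} (hG : Good Q)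
    (h7 : 7 ≤ Fintype.card ι) {m a b i N r s : ℕ} {δ ε ε' : ℤ} (hi : Idx hG i) (hb : 1 ≤ b) (hab : a + b = m)
    (hδ : ε * ε' = δ)
    (hcl : ∀ {V : Type u} [AddCommGroup V] [Module F V] [Finite V], Module.finrank F V = 2 * m →
      ∀ Q' : QuadraticForm F V, Nondeg Q' → HasSign (⇑Q') m δ → ∃ e : (ι → F) ≃ₗ[F] V, ∀ u, Q' (e u) = Q u)
    (hN : Odd N) (hr : Odd r) (hNr : N.Coprime r) (h : EltS F b ε N) (h' : Elt F a ε' r) (hs : s.Prime) (hsN : s ∣ N)
    (hc : 2 * (i * (Nat.card (F ≃+* F) * (2 * b))) < N - N / s) : Th (Cfsg.POmega F ⇑Q) (s * r) := by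
  obtain ⟨z, y, hz, hev, hw, hy, hzy⟩ := torE_pair hG (by omega) hb hab hδ hcl hN hr h h'
  have := finite_P (Q := Q)
  obtain ⟨A, hA, hA'⟩ := hi
  have h7' : 7 ≤ finrank F (ι → F) := by rw [Module.finrank_fintype_fun_eq_card]; exact h7
  have h1 := orb_spec hG h7' hA' hN hz hev hw hs.one_lt
  have hz' : orderOf ((z : ↥(E Q)) : P Q) = N := by rw [orderOf_mk hG (by rwa [hz]), hz]
  have hy' : orderOf ((y : ↥(E Q)) : P Q) = r := by rw [orderOf_mk hG (by rwa [hy]), hy]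
  have h2 := card_sing (x := ((z : ↥(E Q)) : P Q)) hs hz' hsN
  obtain ⟨u, v, t, hu, hv, ht, h3, h4, h5⟩ := exists_three h1 (lt_of_le_of_lt
    (Nat.mul_le_mul_left 2 (Nat.mul_le_mul_right _ hA)) (lt_of_lt_of_le hc h2))
  have hcomm : Commute ((z : ↥(E Q)) : P Q) ((y : ↥(E Q)) : P Q) := by
    show ((z * y : ↥(E Q)) : P Q) = ((y * z : ↥(E Q)) : P Q)
    rw [hzy.eq]
  exact (Th.mul_of hNr hz' hy' hcomm hu hv ht h3 h4 h5).congr (pe hG).symm

theorem exists_tw {ι : Type} [Fintype ι] [DecidableEq ι] {Q : QuadraticForm F (ι → F)} (hG : Good Q)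
    (h7 : 7 ≤ Fintype.card ι) {m a b i N r : ℕ} {δ ε ε' : ℤ} (hi : Idx hG i) (hb : 1 ≤ b) (hab : a + b = m)
    (hδ : ε * ε' = δ)
    (hcl : ∀ {V : Type u} [AddCommGroup V] [Module F V] [Finite V], Module.finrank F V = 2 * m →
      ∀ Q' : QuadraticForm F V, Nondeg Q' → HasSign (⇑Q') m δ → ∃ e : (ι → F) ≃ₗ[F] V, ∀ u, Q' (e u) = Q u)
    (hN : Odd N) (hN1 : 1 < N) (hr : Odd r) (hNr : N.Coprime r) (h : EltS F b ε N) (h' : Elt F a ε' r)
    (hc : i * (Nat.card (F ≃+* F) * (2 * b)) < N.totient) : Tw (Cfsg.POmega F ⇑Q) (N * r) := by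
  obtain ⟨z, y, hz, hev, hw, hy, hzy⟩ := torE_pair hG (by omega) hb hab hδ hcl hN hr h h'
  have := finite_P (Q := Q)
  obtain ⟨A, hA, hA'⟩ := hi
  have h7' : 7 ≤ finrank F (ι → F) := by rw [Module.finrank_fintype_fun_eq_card]; exact h7
  have h1 := orb_spec hG h7' hA' hN hz hev hw hN1
  have hz' : orderOf ((z : ↥(E Q)) : P Q) = N := by rw [orderOf_mk hG (by rwa [hz]), hz]
  have hy' : orderOf ((y : ↥(E Q)) : P Q) = r := by rw [orderOf_mk hG (by rwa [hy]), hy]
  obtain ⟨u, v, hu, hv, h3⟩ := exists_two h1 (lt_of_le_of_lt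
    (Nat.mul_le_mul_right _ hA) (lt_of_lt_of_le hc (card_gen hz')))
  have hcomm : Commute ((z : ↥(E Q)) : P Q) ((y : ↥(E Q)) : P Q) := by
    show ((z * y : ↥(E Q)) : P Q) = ((y * z : ↥(E Q)) : P Q)
    rw [hzy.eq]
  exact (Tw.mul_of hNr hz' hy' hcomm hu hv h3).congr (pe hG).symm

end

section plus

universe u

variable {F : Type u} [Field F] [Fintype F] {m : ℕ}

theorem th_plus {a b N r s : ℕ} {ε : ℤ} (hm : 5 ≤ m) (hb : 1 ≤ b) (hab : a + b = m) (hε : ε * ε = 1)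
    (hN : Odd N) (hr : Odd r) (hNr : N.Coprime r) (h : EltS F b ε N) (h' : Elt F a ε r) (hs : s.Prime) (hsN : s ∣ N)
    (hc : 2 * (Nat.card (F ≃+* F) * (2 * b)) < N - N / s) : Th (Cfsg.POmega F (Cfsg.quadFormPlus m F)) (s * r) := by
  rw [← coe_plusForm]
  refine exists_th (good_plus (F := F) (m := m) (by omega)) (by rw [Fintype.card_sum, Fintype.card_fin]; omega)
    (i := 1) (idx_one _ (by rw [Module.finrank_fintype_fun_eq_card, Fintype.card_sum, Fintype.card_fin]; omega)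
    fun h => by
      rw [Module.finrank_fintype_fun_eq_card, Fintype.card_sum, Fintype.card_fin] at h
      omega) hb hab hε ?_ hN hr hNr h h' hs hsN (by rwa [one_mul])
  intro V _ _ _ hV Q' hQ' hs
  obtain ⟨e, he⟩ := exists_plus (by omega) hV Q' hQ' hs
  exact ⟨e, fun u => by rw [he, coe_plusForm]⟩

theorem tw_plus {a b N r : ℕ} {ε : ℤ} (hm : 5 ≤ m) (hb : 1 ≤ b) (hab : a + b = m) (hε : ε * ε = 1)
    (hN : Odd N) (hN1 : 1 < N) (hr : Odd r) (hNr : N.Coprime r) (h : EltS F b ε N) (h' : Elt F a ε r)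
    (hc : Nat.card (F ≃+* F) * (2 * b) < N.totient) : Tw (Cfsg.POmega F (Cfsg.quadFormPlus m F)) (N * r) := by
  rw [← coe_plusForm]
  refine exists_tw (good_plus (F := F) (m := m) (by omega)) (by rw [Fintype.card_sum, Fintype.card_fin]; omega)
    (i := 1) (idx_one _ (by rw [Module.finrank_fintype_fun_eq_card, Fintype.card_sum, Fintype.card_fin]; omega)
    fun h => by
      rw [Module.finrank_fintype_fun_eq_card, Fintype.card_sum, Fintype.card_fin] at h
      omega) hb hab hε ?_ hN hN1 hr hNr h h' (by rwa [one_mul])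
  intro V _ _ _ hV Q' hQ' hs
  obtain ⟨e, he⟩ := exists_plus (by omega) hV Q' hQ' hs
  exact ⟨e, fun u => by rw [he, coe_plusForm]⟩

end plus

end Cfsg.Agent.H320.Der
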