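import Cfsg.Agent.H320.Der.Spec

/-!
# Automorphism classes of torus elements of `P Q` (helper320, S3502)

* `lin g`, `g : E Q`
* `orb_spec` : `A ≤ Aut (P Q)` permuting the point stabilisers, `g` of odd order `N` with an eigenvalue of order `N`,
  `rk (g - 1) ≤ w` : the `A`-orbits meet `{y ∈ ⟨g⟩ : v ∣ orderOf y}` in at most `|Aut F| w` elements
-/

set_option autoImplicit false

namespace Cfsg.Agent.H320.Der

open Polynomial Module Subgroup QuadraticMap
open Cfsg.Agent.LieClassical.OrthCore Cfsg.Agent.LieClassical.OrthTrans Cfsg.Agent.AutOrth.SemiSim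
  Cfsg.Agent.AutOrth.Gen Cfsg.Agent.ClassicalGeometry.OrthAut1 Cfsg.Agent.AutOrth.Main

section

variable {F V : Type*} [Field F] [AddCommGroup V] [Module F V] {Q : QuadraticForm F V}

/-- the linear map -/
def lin : ↥(E Q) →* Module.End F V where
  toFun g := ((g : V ≃ₗ[F] V) : V →ₗ[F] V)
  map_one' := rfl
  map_mul' _ _ := rfl

theorem lin_apply (g : ↥(E Q)) (v : V) : lin g v = (g : V ≃ₗ[F] V) v := rfl

theorem lin_injective : Function.Injective (lin (Q := Q)) := by
  intro g h hgh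
  apply ext_E
  intro v
  exact LinearMap.congr_fun hgh v

theorem orderOf_lin (g : ↥(E Q)) : orderOf (lin g) = orderOf g := orderOf_injective lin lin_injective g

/-- the centre has exponent two -/
theorem center_sq (hG : Good Q) {z : ↥(E Q)} (hz : z ∈ center ↥(E Q)) : z ^ 2 = 1 := by
  obtain ⟨c, hc⟩ := scalar_of_center hG hz
  obtain ⟨x, y, h⟩ := hG.exists_hyp
  have h1 : c * c = 1 := by
    have h2 : polar Q ((z : V ≃ₗ[F] V) x) ((z : V ≃ₗ[F] V) y) = polar Q x y := polar_map (E_le_O z.2) x y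
    rw [hc, hc, polar_smul_left, polar_smul_right, h.pair] at h2
    simpa [mul_assoc] using h2
  apply ext_E
  intro v
  have h2 : ((z ^ 2 : ↥(E Q)) : V ≃ₗ[F] V) v = (z : V ≃ₗ[F] V) ((z : V ≃ₗ[F] V) v) := by rw [pow_two]; rfl
  rw [h2, hc, hc, smul_smul, h1, one_smul]
  rfl

theorem eq_one_of_sq {G : Type*} [Group G] {z : G} (h2 : z ^ 2 = 1) {n : ℕ} (hn : Odd n) (h : z ^ n = 1) : z = 1 := by
  obtain ⟨k, rfl⟩ := hn
  rwa [pow_succ, pow_mul, h2, one_pow, one_mul] at h

theorem orderOf_mk (hG : Good Q) {g : ↥(E Q)} (hg : Odd (orderOf g)) : orderOf ((g : ↥(E Q)) : P Q) = orderOf g := by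
  rw [orderOf_eq_orderOf_iff]
  intro k
  constructor
  · intro h
    rw [← QuotientGroup.mk_pow, QuotientGroup.eq_one_iff] at h
    refine eq_one_of_sq (center_sq hG h) hg ?_
    rw [← pow_mul, mul_comm, pow_mul, pow_orderOf_eq_one, one_pow]
  · intro h
    rw [← QuotientGroup.mk_pow, h]
    rfl

theorem mem_zpowers_of_order {G : Type*} [Group G] [Finite G] {x y z : G} (hy : y ∈ zpowers x) (hz : z ∈ zpowers x)
    (h : orderOf z = orderOf y) : z ∈ zpowers y := by
  classical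
  have := Fintype.ofFinite G
  have h1 : Nat.card (zpowers y) = orderOf y := Nat.card_zpowers y
  let D : Finset (zpowers x) := Finset.univ.filter fun u => u ^ orderOf y = 1
  have hD : D.card ≤ orderOf y := IsCyclic.card_pow_eq_one_le (orderOf_pos y)
  let C : Finset (zpowers x) := Finset.univ.filter fun u => (u : G) ∈ zpowers y
  have hC : C.card = orderOf y := by
    rw [← h1, Nat.card_eq_fintype_card]
    rw [← Fintype.card_coe]
    refine Fintype.card_congr ⟨fun u => ⟨u.1.1, (Finset.mem_filter.1 u.2).2⟩,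
      fun u => ⟨⟨u.1, (zpowers_le.2 hy) u.2⟩, Finset.mem_filter.2 ⟨Finset.mem_univ _, u.2⟩⟩, fun _ => rfl, fun _ => rfl⟩
  have hCD : C ⊆ D := by
    intro u hu
    rw [Finset.mem_filter] at hu ⊢
    refine ⟨Finset.mem_univ _, Subtype.ext ?_⟩
    exact orderOf_dvd_iff_pow_eq_one.1 (orderOf_dvd_of_mem_zpowers hu.2)
  have hE : C = D := Finset.eq_of_subset_of_card_le hCD (by omega)
  have hzD : (⟨z, hz⟩ : zpowers x) ∈ D := by
    rw [Finset.mem_filter]
    refine ⟨Finset.mem_univ _, Subtype.ext ?_⟩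
    show z ^ orderOf y = 1
    rw [← h, pow_orderOf_eq_one]
  rw [← hE, Finset.mem_filter] at hzD
  exact hzD.2

theorem modEq_of_pow_eq {K : Type*} [Field K] {a : K} (ha : 0 < orderOf a) {i j : ℕ} (h : a ^ i = a ^ j) :
    i ≡ j [MOD orderOf a] := by
  have ha0 : a ≠ 0 := by
    rintro rfl
    have h1 := pow_orderOf_eq_one (0 : K)
    rw [zero_pow ha.ne'] at h1
    exact zero_ne_one h1
  have h1 : (Units.mk0 a ha0) ^ i = (Units.mk0 a ha0) ^ j := by
    apply Units.ext
    simpa using h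
  rw [pow_eq_pow_iff_modEq, ← orderOf_units] at h1
  exact h1

theorem finite_E [Finite F] [FiniteDimensional F V] : Finite ↥(E Q) := by
  have : Finite V := Module.finite_of_finite F
  have : Finite (V ≃ₗ[F] V) := Finite.of_injective (fun f : V ≃ₗ[F] V => (f : V → V)) DFunLike.coe_injective
  infer_instance

/-- **The bound for the classes.** -/
theorem orb_spec [Finite F] [FiniteDimensional F V] (hG : Good Q) (h7 : 7 ≤ finrank F V) [Finite (P Q)]
    {A : Subgroup (MulAut (P Q))} (hA : ∀ α ∈ A, Pt hG α) {g : ↥(E Q)} {N w v : ℕ} (hN : Odd N) (hg : orderOf g = N)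
    (hev : HasEV (lin g) N) (hw : finrank F (LinearMap.range (lin g - 1)) ≤ w) (hv : 1 < v) :
    Orb A {y : P Q | y ∈ zpowers ((g : ↥(E Q)) : P Q) ∧ v ∣ orderOf y} (Nat.card (F ≃+* F) * w) := by
  classical
  have := finite_E (Q := Q)
  rintro y ⟨hy, hvy⟩
  obtain ⟨i, hi⟩ : ∃ i : ℕ, ((g : ↥(E Q)) : P Q) ^ i = y := by
    rw [← mem_powers_iff_mem_zpowers] at hy
    exact hy
  have hN0 : 0 < N := hN.pos
  set h : ↥(E Q) := g ^ i with hh
  have hhy : ((h : ↥(E Q)) : P Q) = y := by rw [hh, QuotientGroup.mk_pow, hi]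
  set n := orderOf h with hn
  have hnN : n ∣ N := by rw [hn, ← hg]; exact orderOf_pow_dvd i
  have hnodd : Odd n := hN.of_dvd_nat hnN
  have hon : orderOf y = n := by rw [← hhy]; exact orderOf_mk hG hnodd
  have hn1 : 1 < n := by
    rw [← hon]
    exact lt_of_lt_of_le hv (Nat.le_of_dvd (orderOf_pos y) hvy)
  have hlin : lin h = lin g ^ i := by rw [hh, map_pow]
  have hev' : HasEV (lin h) n := by
    rw [hlin]
    refine hev.pow ?_ hN0
    rw [hn, hh, orderOf_pow, hg]
  have hw' : finrank F (LinearMap.range (lin h - 1)) ≤ w := by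
    rw [hlin]
    exact (Submodule.finrank_mono (range_pow_le _ i)).trans hw
  obtain ⟨a, R, ha, hR, hkey⟩ := ev_bound hn1 (orderOf_lin h) hev' hw'
  have key : ∀ z : {z // z ∈ {y : P Q | y ∈ zpowers ((g : ↥(E Q)) : P Q) ∧ v ∣ orderOf y} ∧ ∃ α ∈ A, α y = z},
      ∃ k : ℕ, ((h ^ k : ↥(E Q)) : P Q) = z ∧ a ^ k ∈ R := by
    rintro ⟨z, ⟨hz, -⟩, α, hα, hαz⟩
    have hzy : orderOf z = orderOf y := by rw [← hαz]; exact MulEquiv.orderOf_eq α y
    have h1 := mem_zpowers_of_order hy hz hzy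
    obtain ⟨k, hk⟩ : ∃ k : ℕ, y ^ k = z := by
      rw [← mem_powers_iff_mem_zpowers] at h1
      exact h1
    refine ⟨k, by rw [QuotientGroup.mk_pow, hhy, hk], ?_⟩
    obtain ⟨M, σ, c, hM, hMg⟩ := Cfsg.Agent.ClassicalGeometry.OrthAut4.exists_semi_P hG h7 α (hA α hα)
    have h2 : ((conjE hM h : ↥(E Q)) : P Q) = ((h ^ k : ↥(E Q)) : P Q) := by
      rw [← hMg, hhy, hαz, QuotientGroup.mk_pow, hhy, hk]
    have h3 : (h ^ k)⁻¹ * conjE hM h ∈ center ↥(E Q) := by
      rw [← QuotientGroup.eq]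
      exact h2.symm
    have h4 : conjE hM h = h ^ k * ((h ^ k)⁻¹ * conjE hM h) := by group
    have h5 : ((h ^ k)⁻¹ * conjE hM h) ^ n = 1 := by
      have hc : Commute (h ^ k) ((h ^ k)⁻¹ * conjE hM h) := (mem_center_iff.1 h3 (h ^ k))
      have h6 := hc.mul_pow n
      rw [← h4, ← map_pow, hn, pow_orderOf_eq_one, map_one, ← pow_mul, mul_comm k, pow_mul, pow_orderOf_eq_one,
        one_pow, one_mul] at h6
      exact h6.symm
    have h6 := eq_one_of_sq (center_sq hG h3) hnodd h5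
    rw [h6, mul_one] at h4
    refine hkey M σ hM.smul k fun v => ?_
    rw [← map_pow, lin_apply, ← h4, conjE_apply, lin_apply]
  choose k hk1 hk2 using key
  refine le_trans ?_ hR
  rw [← Nat.card_eq_finsetCard R]
  refine Nat.card_le_card_of_injective (fun z => (⟨a ^ k z, hk2 z⟩ : R)) fun z z' hzz => ?_
  have h1 : a ^ k z = a ^ k z' := congrArg Subtype.val hzz
  have h3 := modEq_of_pow_eq (by rw [ha]; omega) h1
  rw [ha] at h3
  have h2 : h ^ k z = h ^ k z' := by
    rw [pow_eq_pow_iff_modEq]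
    exact h3
  apply Subtype.ext
  rw [← hk1 z, ← hk1 z', h2]

end

end Cfsg.Agent.H320.Der
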