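import Cfsg.Agent.H320.Der.Tor
import Cfsg.Agent.H72.AdjCoc
import Cfsg.Agent.Lib.FieldAutCard

/-!
# Three `Aut T`-classes from a torus, `T = PΩ^±_{2m}(q)` (helper320, S3502)

* `Idx T i` (for `P Q`): the automorphisms permuting the point stabilisers have index at most `i`
* `three_of_tor`, `two_of_tor`
* `Gp F m δ T` : `T` is `PΩ^δ_{2m}(F)`, with the facts used
-/

set_option autoImplicit false
set_option linter.unusedSectionVars false

namespace Cfsg.Agent.H320.Der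

open Polynomial Module Subgroup QuadraticMap Cfsg.Agent.H439.Der
open Cfsg.Agent.LieClassical.OrthCore Cfsg.Agent.LieClassical.OrthTrans
  Cfsg.Agent.H403.Classify Cfsg.Agent.H377 Cfsg.Agent.AutOrth.Main Cfsg.Agent.ClassicalGeometry.OrthAut1
  Cfsg.Agent.LieClassical.QuadForms

universe u

section

variable {F : Type u} [Field F] [Finite F] {V : Type*} [AddCommGroup V] [Module F V] [FiniteDimensional F V]
  {Q : QuadraticForm F V}

theorem finite_P : Finite (P Q) := by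
  have := finite_E (Q := Q)
  exact Quotient.finite _

/-- the automorphisms permuting the point stabilisers have index at most `i` -/
def Idx (hG : Good Q) (i : ℕ) : Prop := ∃ A : Subgroup (MulAut (P Q)), A.index ≤ i ∧ ∀ α ∈ A, Pt hG α

/-- at least three classes of elements of order divisible by `v` -/
def Th (T : Type*) [Group T] (v : ℕ) : Prop :=
  ∃ x y z : T, v ∣ orderOf x ∧ v ∣ orderOf y ∧ v ∣ orderOf z ∧ (∀ φ : T ≃* T, φ x ≠ y) ∧ (∀ φ : T ≃* T, φ x ≠ z) ∧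
    ∀ φ : T ≃* T, φ y ≠ z

/-- two classes of elements of order `n` -/
def Tw (T : Type*) [Group T] (n : ℕ) : Prop :=
  ∃ x y : T, orderOf x = n ∧ orderOf y = n ∧ ∀ φ : T ≃* T, φ x ≠ y

theorem Th.congr {T S : Type*} [Group T] [Group S] {v : ℕ} (e : T ≃* S) (h : Th T v) : Th S v := by
  obtain ⟨x, y, z, hx, hy, hz, h1, h2, h3⟩ := h
  refine ⟨e x, e y, e z, by rwa [MulEquiv.orderOf_eq], by rwa [MulEquiv.orderOf_eq], by rwa [MulEquiv.orderOf_eq],
    fun φ hφ => h1 ((e.trans φ).trans e.symm) ?_,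
    fun φ hφ => h2 ((e.trans φ).trans e.symm) ?_, fun φ hφ => h3 ((e.trans φ).trans e.symm) ?_⟩
  · simp [hφ]
  · simp [hφ]
  · simp [hφ]

theorem Tw.congr {T S : Type*} [Group T] [Group S] {v : ℕ} (e : T ≃* S) (h : Tw T v) : Tw S v := by
  obtain ⟨x, y, hx, hy, h1⟩ := h
  refine ⟨e x, e y, by rwa [MulEquiv.orderOf_eq], by rwa [MulEquiv.orderOf_eq],
    fun φ hφ => h1 ((e.trans φ).trans e.symm) ?_⟩
  simp [hφ]

theorem Th.not_SCC {T : Type*} [Group T] {v : ℕ} (h : Th T v) : ¬ SCC T v := by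
  obtain ⟨x, y, z, hx, hy, hz, h1, h2, h3⟩ := h
  exact not_SCC_of_three hx hy hz h1 h2 h3

/-- three orders -/
theorem Th.of_orders {T : Type*} [Group T] {v a b c : ℕ} (ha : v ∣ a) (hb : v ∣ b) (hc : v ∣ c) (hab : a ≠ b)
    (hac : a ≠ c) (hbc : b ≠ c) (h1 : ∃ x : T, orderOf x = a) (h2 : ∃ x : T, orderOf x = b)
    (h3 : ∃ x : T, orderOf x = c) : Th T v := by
  obtain ⟨x, hx⟩ := h1
  obtain ⟨y, hy⟩ := h2
  obtain ⟨z, hz⟩ := h3
  refine ⟨x, y, z, hx ▸ ha, hy ▸ hb, hz ▸ hc, fun φ hφ => hab ?_, fun φ hφ => hac ?_, fun φ hφ => hbc ?_⟩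
  · rw [← hx, ← hy, ← hφ, MulEquiv.orderOf_eq]
  · rw [← hx, ← hz, ← hφ, MulEquiv.orderOf_eq]
  · rw [← hy, ← hz, ← hφ, MulEquiv.orderOf_eq]

/-- two classes of one order and another order -/
theorem Th.of_two {T : Type*} [Group T] {v a b : ℕ} (ha : v ∣ a) (hb : v ∣ b) (hab : a ≠ b)
    (h1 : Tw T a) (h2 : ∃ x : T, orderOf x = b) : Th T v := by
  obtain ⟨x, y, hx, hy, hxy⟩ := h1
  obtain ⟨z, hz⟩ := h2
  refine ⟨x, y, z, hx ▸ ha, hy ▸ ha, hz ▸ hb, hxy, fun φ hφ => hab ?_, fun φ hφ => hab ?_⟩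
  · rw [← hx, ← hz, ← hφ, MulEquiv.orderOf_eq]
  · rw [← hy, ← hz, ← hφ, MulEquiv.orderOf_eq]

theorem three_of_tor (hG : Good Q) (h7 : 7 ≤ finrank F V) {i w N v : ℕ} (hi : Idx hG i) (hN : Odd N) (hv : v.Prime)
    (hvN : v ∣ N) {z : ↥(E Q)} (hz : orderOf z = N) (hev : HasEV (lin z) N)
    (hw : finrank F (LinearMap.range (lin z - 1)) ≤ w)
    (h : 2 * (i * (Nat.card (F ≃+* F) * w)) < N - N / v) : Th (P Q) v := by
  have := finite_P (Q := Q)
  obtain ⟨A, hA, hA'⟩ := hi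
  have h1 := orb_spec hG h7 hA' hN hz hev hw hv.one_lt
  have h2 := card_sing (x := ((z : ↥(E Q)) : P Q)) hv (by rw [orderOf_mk hG (by rwa [hz]), hz]) hvN
  obtain ⟨x, y, t, hx, hy, ht, h3, h4, h5⟩ := exists_three h1 (lt_of_le_of_lt
    (Nat.mul_le_mul_left 2 (Nat.mul_le_mul_right _ hA)) (lt_of_lt_of_le h h2))
  exact ⟨x, y, t, hx.2, hy.2, ht.2, h3, h4, h5⟩

theorem card_gen {T : Type*} [Group T] [Finite T] {x : T} {N : ℕ} (hx : orderOf x = N) :
    N.totient ≤ Nat.card {y // y ∈ zpowers x ∧ N ∣ orderOf y} := by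
  classical
  have := Fintype.ofFinite T
  have h1 : Fintype.card (zpowers x) = N := by rw [← Nat.card_eq_fintype_card, Nat.card_zpowers, hx]
  have h2 := IsCyclic.card_orderOf_eq_totient (α := zpowers x) (d := N) (by rw [h1])
  rw [← h2, Nat.card_eq_fintype_card, ← Fintype.card_coe]
  refine Fintype.card_le_of_injective (fun y => ⟨y.1.1, y.1.2, ?_⟩) fun a b hab => ?_
  · have h3 := (Finset.mem_filter.1 y.2).2
    rw [Subgroup.orderOf_coe, h3]
  · exact Subtype.ext (Subtype.ext (Subtype.mk.inj hab))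

theorem two_of_tor (hG : Good Q) (h7 : 7 ≤ finrank F V) {i w N : ℕ} (hi : Idx hG i) (hN : Odd N) (hN1 : 1 < N)
    {z : ↥(E Q)} (hz : orderOf z = N) (hev : HasEV (lin z) N)
    (hw : finrank F (LinearMap.range (lin z - 1)) ≤ w)
    (h : i * (Nat.card (F ≃+* F) * w) < N.totient) : Tw (P Q) N := by
  have := finite_P (Q := Q)
  obtain ⟨A, hA, hA'⟩ := hi
  have h1 := orb_spec hG h7 hA' hN hz hev hw hN1
  have hx : orderOf ((z : ↥(E Q)) : P Q) = N := by rw [orderOf_mk hG (by rwa [hz]), hz]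
  obtain ⟨x, y, hx', hy', h3⟩ := exists_two h1 (lt_of_le_of_lt
    (Nat.mul_le_mul_right _ hA) (lt_of_lt_of_le h (card_gen hx)))
  exact ⟨x, y, Nat.dvd_antisymm (by rw [← hx]; exact orderOf_dvd_of_mem_zpowers hx'.1) hx'.2,
    Nat.dvd_antisymm (by rw [← hx]; exact orderOf_dvd_of_mem_zpowers hy'.1) hy'.2, h3⟩

theorem idx_one (hG : Good Q) (h7 : 7 ≤ finrank F V)
    (h8 : finrank F V = 8 → ∀ W : Submodule F V, TS Q W → finrank F W ≠ 4) : Idx hG 1 :=
  ⟨⊤, by rw [Subgroup.index_top], fun α _ => pt_of_no_four hG h7 h8 α⟩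

end

theorem idx_three {F : Type u} [Field F] [Finite F] : Idx (good_plus (F := F) (m := 4) (by norm_num)) 3 := by
  obtain ⟨Γ, hΓ, hind⟩ := Cfsg.Agent.ClassicalGeometry.TrialityFinal.exists_index_three
    (good_plus (F := F) (m := 4) (by norm_num)) fun α x hx hx0 => by
      rcases Cfsg.Agent.ClassicalGeometry.OrthAut3.dichotomy (good_plus (F := F) (m := 4) (by norm_num)) (by simp)
        α hx hx0 with h | h
      · exact Or.inl h
      · exact Or.inr h.2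
  exact ⟨Γ, hind.le, fun α hα => (hΓ α).1 hα⟩

/-- the facts about `T = PΩ^δ_{2m}(F)` -/
structure Gp (F : Type u) [Field F] [Fintype F] (m : ℕ) (δ : ℤ) (i : ℕ) (T : Type*) [Group T] : Prop where
  four : 4 ≤ m
  sign : δ = 1 ∨ δ = -1
  fin : Finite T
  elt2 : ∀ N, Elt2 F m δ N → ∃ g : T, orderOf g = N
  cls : ∀ s : ℕ, s.Prime → s ≠ 2 → ¬ s ∣ Nat.card F → s ∣ Nat.card T →
    H72.AdjOrth.eta (H72.AdjOrth.ee (Nat.card F) s) < m ∨
      (H72.AdjOrth.eta (H72.AdjOrth.ee (Nat.card F) s) = m ∧ H72.AdjOrth.sg (H72.AdjOrth.ee (Nat.card F) s) = δ)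
  three : ∀ {k N v : ℕ} {ε : ℤ}, 1 ≤ k → (k < m ∨ (k = m ∧ ε = δ)) → (ε = 1 ∨ ε = -1) → Odd N → EltS F k ε N →
    v.Prime → v ∣ N → 2 * (i * (Nat.card (F ≃+* F) * (2 * k))) < N - N / v → Th T v
  two : ∀ {k N : ℕ} {ε : ℤ}, 1 ≤ k → (k < m ∨ (k = m ∧ ε = δ)) → (ε = 1 ∨ ε = -1) → Odd N → 1 < N → EltS F k ε N →
    i * (Nat.card (F ≃+* F) * (2 * k)) < N.totient → Tw T N

section

variable {F : Type u} [Field F] [Fintype F] {m : ℕ}

theorem gp_of {ι : Type} [Fintype ι] [DecidableEq ι] {Q : QuadraticForm F (ι → F)} (hG : Good Q) {δ : ℤ} {i : ℕ}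
    (hm : 4 ≤ m) (hι : Fintype.card ι = 2 * m) (hδ : δ = 1 ∨ δ = -1) (hi : Idx hG i)
    (hcl : ∀ {V : Type u} [AddCommGroup V] [Module F V] [Finite V], Module.finrank F V = 2 * m →
      ∀ Q' : QuadraticForm F V, Nondeg Q' → HasSign (⇑Q') m δ → ∃ e : (ι → F) ≃ₗ[F] V, ∀ u, Q' (e u) = Q u)
    (h2 : ∀ N, Elt2 F m δ N → ∃ g : Cfsg.POmega F ⇑Q, orderOf g = N)
    (hc : ∀ s : ℕ, s.Prime → s ≠ 2 → ¬ s ∣ Nat.card F → s ∣ Nat.card (Cfsg.POmega F ⇑Q) →
    H72.AdjOrth.eta (H72.AdjOrth.ee (Nat.card F) s) < m ∨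
      (H72.AdjOrth.eta (H72.AdjOrth.ee (Nat.card F) s) = m ∧ H72.AdjOrth.sg (H72.AdjOrth.ee (Nat.card F) s) = δ)) :
    Gp F m δ i (Cfsg.POmega F ⇑Q) where
  four := hm
  sign := hδ
  fin := Quotient.finite _
  elt2 := h2
  cls := hc
  three := by
    intro k N v ε hk hkm hε hN h hv hvN hlt
    obtain ⟨z, hz, hev, hw⟩ := torE_of hG (by omega) hk hkm hε hδ hcl hN h
    exact (three_of_tor hG (by rw [Module.finrank_fintype_fun_eq_card]; omega) hi hN hv hvN hz hev hw hlt).congr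
      (pe hG).symm
  two := by
    intro k N ε hk hkm hε hN hN1 h hlt
    obtain ⟨z, hz, hev, hw⟩ := torE_of hG (by omega) hk hkm hε hδ hcl hN h
    exact (two_of_tor hG (by rw [Module.finrank_fintype_fun_eq_card]; omega) hi hN hN1 hz hev hw hlt).congr
      (pe hG).symm

theorem gp_plus {i : ℕ} (hm : 4 ≤ m) (hi : Idx (good_plus (F := F) (m := m) (by omega)) i) :
    Gp F m 1 i (Cfsg.POmega F (Cfsg.quadFormPlus m F)) := by
  rw [← coe_plusForm]
  refine gp_of (good_plus (F := F) (m := m) (by omega)) hm (by rw [Fintype.card_sum, Fintype.card_fin]; ring)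
    (Or.inl rfl) hi ?_ ?_ ?_
  · intro V _ _ _ hV Q' hQ' hs
    obtain ⟨e, he⟩ := exists_plus (by omega) hV Q' hQ' hs
    exact ⟨e, fun u => by rw [he, coe_plusForm]⟩
  · intro N h
    rw [coe_plusForm]
    exact h.plus hm
  · intro s hs _ hsq hd
    rw [coe_plusForm] at hd
    exact H72.AdjCoc.plus_class hm hs hsq hd

theorem gp_minus {i : ℕ} (hm : 4 ≤ m) {a b : F}
    (hab : ∀ z₁ z₂ : F, z₁ ^ 2 + a * z₁ * z₂ + b * z₂ ^ 2 = 0 → z₁ = 0 ∧ z₂ = 0)
    (hi : Idx (good_minus (F := F) (m := m - 1) (by omega) hab) i) :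
    Gp F m (-1) i (Cfsg.POmega F (Cfsg.quadFormMinus (m - 1) F a b)) := by
  rw [← coe_minusForm]
  refine gp_of (good_minus (F := F) (m := m - 1) (by omega) hab) hm
    (by simp only [Fintype.card_sum, Fintype.card_fin]; omega) (Or.inr rfl) hi ?_ ?_ ?_
  · intro V _ _ _ hV Q' hQ' hs
    obtain ⟨e, he⟩ := exists_minus (by omega) hV Q' hQ' hs hab
    exact ⟨e, fun u => by rw [he, coe_minusForm]⟩
  · intro N h
    rw [coe_minusForm]
    exact h.minus hm hab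
  · intro s hs h2 hsq hd
    rw [coe_minusForm] at hd
    exact H72.AdjCoc.minus_class hm hab hs h2 hsq hd

theorem gp_plus_four : Gp F 4 1 3 (Cfsg.POmega F (Cfsg.quadFormPlus 4 F)) := gp_plus le_rfl idx_three

theorem gp_plus_five (hm : 5 ≤ m) : Gp F m 1 1 (Cfsg.POmega F (Cfsg.quadFormPlus m F)) :=
  gp_plus (by omega) (idx_one _ (by rw [Module.finrank_fintype_fun_eq_card, Fintype.card_sum, Fintype.card_fin]; omega)
    fun h => by
      rw [Module.finrank_fintype_fun_eq_card, Fintype.card_sum, Fintype.card_fin] at h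
      omega)

theorem gp_minus_all (hm : 4 ≤ m) {a b : F}
    (hab : ∀ z₁ z₂ : F, z₁ ^ 2 + a * z₁ * z₂ + b * z₂ ^ 2 = 0 → z₁ = 0 ∧ z₂ = 0) :
    Gp F m (-1) 1 (Cfsg.POmega F (Cfsg.quadFormMinus (m - 1) F a b)) :=
  gp_minus hm hab (idx_one _ (by
    rw [Module.finrank_fintype_fun_eq_card]
    simp only [Fintype.card_sum, Fintype.card_fin]
    omega) fun h W hW => by
      have h1 := finrank_le_of_TS_minus (m - 1) a b hab hW
      rw [Module.finrank_fintype_fun_eq_card] at h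
      simp only [Fintype.card_sum, Fintype.card_fin] at h
      omega)

end

end Cfsg.Agent.H320.Der
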