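import Cfsg.Agent.H938.Sax.ASRows
import Cfsg.Agent.H439.Der.Three

/-!
# Elements of order `63` (`217`) of orthogonal groups over `F_2` of dimension at most `12` (`16`) (helper320, S3502)
-/

set_option autoImplicit false
set_option linter.unusedSectionVars false

namespace Cfsg.Agent.H320.Der

open Module QuadraticMap Cfsg Cfsg.Geo Cfsg.Agent.LieClassical.OrthCore Cfsg.Agent.H955 Cfsg.Agent.H954.TSing
  Cfsg.Agent.H884.El Cfsg.Agent.LieClassical.OmegaReindex Cfsg.Agent.H938.Sax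
open Cfsg.Agent.H951 (fx cm)
open scoped MatrixGroups Matrix

universe u v

/-- isometries of order `N` of nondegenerate spaces of dimension `≤ d`: the dimension is `d`, no fixed vectors -/
def Lm (F : Type u) [Field F] [Fintype F] (N d : ℕ) : Prop :=
  ∀ {V : Type u} [AddCommGroup V] [Module F V] [FiniteDimensional F V] {Q : QuadraticForm F V} {g : Module.End F V},
    Nondeg Q → (∀ v, Q (g v) = Q v) → orderOf g = N → finrank F V ≤ d →
      finrank F V = d ∧ ∀ v, g v = v → v = 0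

section

variable {F : Type u} [Field F] [Fintype F] {V : Type v} [AddCommGroup V] [Module F V] [FiniteDimensional F V]
  {Q : QuadraticForm F V}

theorem pp_of_card (hF : Fintype.card F = 2) {e r : ℕ} (hr : r.Prime) (h : orderOf (2 : ZMod r) = e) :
    PP (Nat.card F) e r := ⟨hr, by rw [Nat.card_eq_fintype_card, hF]; exact_mod_cast h⟩

theorem pp31 (hF : Fintype.card F = 2) : PP (Nat.card F) 5 31 := pp_of_card hF (by norm_num) (by
  refine (orderOf_eq_iff (by norm_num)).2 ⟨by decide, fun m hm hm0 => ?_⟩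
  interval_cases m <;> decide)

theorem pp7 (hF : Fintype.card F = 2) : PP (Nat.card F) 3 7 := pp_of_card hF (by norm_num) (by
  refine (orderOf_eq_iff (by norm_num)).2 ⟨by decide, fun m hm hm0 => ?_⟩
  interval_cases m <;> decide)

theorem pp3 (hF : Fintype.card F = 2) : PP (Nat.card F) 2 3 := pp_of_card hF (by norm_num) (by
  refine (orderOf_eq_iff (by norm_num)).2 ⟨by decide, fun m hm hm0 => ?_⟩
  interval_cases m <;> decide)

theorem le_fx_of_inf {x y : Module.End F V} {s : ℕ} (hy : Iso Q y s) (hxy : x * y = y * x) (h : cm x ⊓ cm y = ⊥) :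
    cm x ≤ fx y := by
  have h5 := H951.inf_fx_sup_inf_cm hy.ne0 hy.pow (Typ.inv_cm_of_comm hxy)
  rw [h, sup_bot_eq] at h5
  rw [← h5]
  exact inf_le_right

theorem fix_pow_of {g : Module.End F V} {v : V} (h : g v = v) (n : ℕ) : (g ^ n) v = v := H951.pow_fx h n

/-- `217` -/
theorem main217 (hF : Fintype.card F = 2) {g : Module.End F V} (hQ : Nondeg Q) (hg : ∀ v, Q (g v) = Q v)
    (ho : orderOf g = 217) (hd : finrank F V ≤ 16) : finrank F V = 16 ∧ ∀ v, g v = v → v = 0 := by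
  have hgo : g ^ 217 = 1 := by rw [← ho]; exact pow_orderOf_eq_one g
  have hne : ∀ n : ℕ, ¬ 217 ∣ n → g ^ n ≠ 1 := fun n hn h => hn (by rw [← ho]; exact orderOf_dvd_of_pow_eq_one h)
  have hx : Iso Q (g ^ 7) 31 := Iso.mk' (pp31 hF) (by omega) (by rw [← pow_mul, hgo]) (iso_pow hg 7)
  have hy : Iso Q (g ^ 31) 7 := Iso.mk' (pp7 hF) (by omega) (by rw [← pow_mul, hgo]) (iso_pow hg 31)
  have hx1 : g ^ 7 ≠ 1 := hne 7 (by decide)
  have hy1 : g ^ 31 ≠ 1 := hne 31 (by decide)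
  have hxy : g ^ 7 * g ^ 31 = g ^ 31 * g ^ 7 := by rw [← pow_add, ← pow_add]
  have hb := (hx.odd_case hQ hx1 (pp31 hF) (by decide) (by omega)).1
  have h1 := hy.dvd (pp7 hF) (W := cm (g ^ 7)) (Typ.inv_cm_of_comm hxy)
  have h2 := hx.dvd (pp31 hF) (W := cm (g ^ 31)) (Typ.inv_cm_of_comm hxy.symm)
  rw [inf_comm] at h2
  have h3 : finrank F ↥(cm (g ^ 7) ⊓ cm (g ^ 31)) ≤ finrank F (cm (g ^ 7)) := Submodule.finrank_mono inf_le_left
  have h4 : cm (g ^ 7) ⊓ cm (g ^ 31) = ⊥ := Submodule.finrank_eq_zero.1 (by omega)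
  have h5 := le_fx_of_inf hy hxy h4
  have h6 := Typ.cm_le_fx hQ hx hy h5
  have h7 : finrank F (cm (g ^ 31)) ≤ finrank F (fx (g ^ 7)) := Submodule.finrank_mono h6
  have h8 := hx.finrank_add
  have := Fact.mk hy.prime
  obtain ⟨A, hA, -⟩ := exists_inv_ts_of_odd hy.two_lt hy.ne0 (by rw [ord_eq (pp7 hF)]; decide) hQ hy.iso hy.pow
  rw [ord_eq (pp7 hF)] at hA
  have h9 : finrank F (cm (g ^ 31)) ≠ 0 := fun h0 => cm_ne_bot hy1 (Submodule.finrank_eq_zero.1 h0)
  refine ⟨by omega, fun v hv => ?_⟩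
  have h10 : cm (g ^ 31) = fx (g ^ 7) := Submodule.eq_of_le_of_finrank_eq h6 (by omega)
  rw [← Submodule.mem_bot F, ← (H951.isCompl_fx_cm hy.ne0 hy.pow).inf_eq_bot]
  exact ⟨H951.mem_fx.2 (fix_pow_of hv _), by rw [h10]; exact H951.mem_fx.2 (fix_pow_of hv _)⟩

/-- `63` -/
theorem main63 (hF : Fintype.card F = 2) {g : Module.End F V} (hQ : Nondeg Q) (hg : ∀ v, Q (g v) = Q v)
    (ho : orderOf g = 63) (hd : finrank F V ≤ 12) : finrank F V = 12 ∧ ∀ v, g v = v → v = 0 := by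
  have hF' : Nat.card F = 2 := by rw [Nat.card_eq_fintype_card, hF]
  have hgo : g ^ 63 = 1 := by rw [← ho]; exact pow_orderOf_eq_one g
  have hne : ∀ n : ℕ, ¬ 63 ∣ n → g ^ n ≠ 1 := fun n hn h => hn (by rw [← ho]; exact orderOf_dvd_of_pow_eq_one h)
  have hy : Iso Q (g ^ 9) 7 := Iso.mk' (pp7 hF) (by omega) (by rw [← pow_mul, hgo]) (iso_pow hg 9)
  have hz : Iso Q ((g ^ 7) ^ 3) 3 := Iso.mk' (pp3 hF) (by omega) (by
    rw [← pow_mul, ← pow_mul, hgo]) (by rw [← pow_mul]; exact iso_pow hg _)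
  have hy1 : g ^ 9 ≠ 1 := hne 9 (by decide)
  have hz1 : (g ^ 7) ^ 3 ≠ 1 := by rw [← pow_mul]; exact hne 21 (by decide)
  have h9 : (g ^ 7) ^ 9 = 1 := by rw [← pow_mul, hgo]
  have hyz : g ^ 9 * (g ^ 7) ^ 3 = (g ^ 7) ^ 3 * g ^ 9 := by rw [← pow_mul, ← pow_add, ← pow_add]
  have hyz' : g ^ 9 * g ^ 7 = g ^ 7 * g ^ 9 := by rw [← pow_add, ← pow_add]
  have hzz : (g ^ 7) ^ 3 * g ^ 7 = g ^ 7 * (g ^ 7) ^ 3 := by rw [← pow_succ, ← pow_succ']
  have hcard : ∀ W : Submodule F V, Nat.card W = 2 ^ finrank F W := fun W => by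
    rw [Module.natCard_eq_pow_finrank (K := F), hF']
  have h6 : ∀ n < 13, 9 ∣ 2 ^ n - 1 → 6 ∣ n := by decide
  have six : ∀ W : Submodule F V, H951.Inv (g ^ 7) W → W ≤ cm ((g ^ 7) ^ 3) → 6 ∣ finrank F W := by
    intro W hW hWz
    have h2 := Typ.nine_dvd hW h9 (H951.inf_fx_of_le_cm hz.ne0 hz.pow hWz)
    rw [hcard] at h2
    exact h6 _ (lt_of_le_of_lt (Submodule.finrank_le _) (by omega)) h2
  have := Fact.mk hy.prime
  have := Fact.mk hz.prime
  obtain ⟨A, hA, hP, -⟩ := exists_inv_ts_of_odd hy.two_lt hy.ne0 (by rw [ord_eq (pp7 hF)]; decide) hQ hy.iso hy.pow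
  rw [ord_eq (pp7 hF)] at hA
  have h1 : finrank F (cm (g ^ 9)) ≠ 0 := fun h0 => cm_ne_bot hy1 (Submodule.finrank_eq_zero.1 h0)
  have h2 : finrank F (cm ((g ^ 7) ^ 3)) ≠ 0 := fun h0 => cm_ne_bot hz1 (Submodule.finrank_eq_zero.1 h0)
  have h3 : finrank F (cm (g ^ 9)) ≤ finrank F V := Submodule.finrank_le _
  have h4 : finrank F (cm ((g ^ 7) ^ 3)) ≤ finrank F V := Submodule.finrank_le _
  have h5 := six _ (Typ.inv_cm_of_comm hzz) le_rfl
  have hiv : ∀ {x : Module.End F V} {s : ℕ}, Iso Q x s → finrank F (cm x) = 12 → (∀ v, g v = v → x v = v) →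
      finrank F V = 12 ∧ ∀ v, g v = v → v = 0 := by
    intro x s hx h12 hxv
    have h7 : finrank F (cm x) ≤ finrank F V := Submodule.finrank_le _
    have h8 := hx.finrank_add
    refine ⟨by omega, fun v hv => ?_⟩
    have h10 : fx x = ⊥ := Submodule.finrank_eq_zero.1 (by omega)
    rw [← Submodule.mem_bot F, ← h10]
    exact H951.mem_fx.2 (hxv v hv)
  by_cases hA2 : finrank F (cm (g ^ 9)) = 12
  · exact hiv hy hA2 fun v hv => fix_pow_of hv _
  by_cases hB2 : finrank F (cm ((g ^ 7) ^ 3)) = 12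
  · exact hiv hz hB2 fun v hv => fix_pow_of (fix_pow_of hv _) _
  have hA1 : finrank F (cm (g ^ 9)) = 6 := by omega
  have hB1 : finrank F (cm ((g ^ 7) ^ 3)) = 6 := by omega
  have hi := six (cm (g ^ 9) ⊓ cm ((g ^ 7) ^ 3))
    ((Typ.inv_cm_of_comm hyz').inf (Typ.inv_cm_of_comm hzz)) inf_le_right
  have hi2 : finrank F ↥(cm (g ^ 9) ⊓ cm ((g ^ 7) ^ 3)) ≤ finrank F (cm (g ^ 9)) :=
    Submodule.finrank_mono inf_le_left
  rcases Nat.eq_zero_or_pos (finrank F ↥(cm (g ^ 9) ⊓ cm ((g ^ 7) ^ 3))) with h0 | hpos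
  · have h7 := le_fx_of_inf hz hyz (Submodule.finrank_eq_zero.1 h0)
    have h8 := hz.finrank_add
    have h10 : finrank F (cm (g ^ 9)) ≤ finrank F (fx ((g ^ 7) ^ 3)) := Submodule.finrank_mono h7
    refine ⟨by omega, fun v hv => ?_⟩
    have h11 : cm (g ^ 9) = fx ((g ^ 7) ^ 3) := Submodule.eq_of_le_of_finrank_eq h7 (by omega)
    rw [← Submodule.mem_bot F, ← (H951.isCompl_fx_cm hy.ne0 hy.pow).inf_eq_bot]
    refine ⟨H951.mem_fx.2 (fix_pow_of hv _), ?_⟩
    rw [h11]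
    exact H951.mem_fx.2 (fix_pow_of (fix_pow_of hv _) _)
  · exfalso
    have h7 : finrank F ↥(cm (g ^ 9) ⊓ cm ((g ^ 7) ^ 3)) = 6 := by
      obtain ⟨c, hc⟩ := hi
      omega
    have h8 : cm (g ^ 9) ⊓ cm ((g ^ 7) ^ 3) = cm (g ^ 9) :=
      Submodule.eq_of_le_of_finrank_eq inf_le_left (by omega)
    have h10 : cm (g ^ 9) ⊓ cm ((g ^ 7) ^ 3) = cm ((g ^ 7) ^ 3) :=
      Submodule.eq_of_le_of_finrank_eq inf_le_right (by omega)
    rw [← h8, h10, isPlus_cm_iff hz.two_lt hQ hz.iso hz.ne0 hz.pow (ord_eq (pp3 hF)) (by decide) (A := 3)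
      (by rw [hB1])] at hP
    exact absurd hP (by decide)

theorem lm217 (hF : Fintype.card F = 2) : Lm F 217 16 := fun hQ hg ho hd => main217 hF hQ hg ho hd

theorem lm63 (hF : Fintype.card F = 2) : Lm F 63 12 := fun hQ hg ho hd => main63 hF hQ hg ho hd

end

section cons

variable {F : Type u} [Field F] [Fintype F] {N d : ℕ}

/-- the stabiliser of a nonsingular point -/
theorem point_of_lm {ι : Type} [Fintype ι] [DecidableEq ι] {Q : QuadraticForm F (ι → F)} (hL : Lm F N d)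
    (hN : Odd N) (hQ : Nondeg Q) (hD : H390.Lift.Data Q)
    (hd : Fintype.card ι = d) {M : Subgroup (POmega F (⇑Q))} {v : ι → F} (hv : Q v ≠ 0)
    (hM : pre (⇑Q) M ≤ subspaceStabilizer (Submodule.span F {v})) (m : POmega F (⇑Q)) (hm : m ∈ M) :
    orderOf m ≠ N := by
  intro ho
  obtain ⟨g, h1, h2, h3⟩ := exists_pre hD hN hm ho
  have h4 := hL hQ h3 h2 (by rw [finrank_V]; omega)
  have h5 : H884.El.lin g v = v := fix_of_line h3 hN (by rw [← h2]; exact pow_orderOf_eq_one _) hv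
    (inv_of_mem (hM h1) v (Submodule.mem_span_singleton_self v))
  have h6 := h4.2 v h5
  exact hv (by rw [h6]; exact QuadraticMap.map_zero Q)

theorem sp_of_lm [CharP F 2] {n : ℕ} (hL : Lm F N d) (hn : 2 * n < d)
    (A : Matrix.symplecticGroup (Fin n) F) : orderOf A ≠ N := by
  intro ho
  obtain ⟨Q, hQ1, hQ2⟩ := Cfsg.Agent.S2585.result A
  have hQ : Nondeg Q := nondeg_of_symp hQ1
  have h1 : orderOf (Matrix.toLin' (A : Matrix (Fin n ⊕ Fin n) (Fin n ⊕ Fin n) F)) = N := by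
    rw [← ho]
    have h2 : orderOf (A : Matrix (Fin n ⊕ Fin n) (Fin n ⊕ Fin n) F) = orderOf A := orderOf_submonoid A
    rw [← h2]
    exact orderOf_injective (Matrix.toLinAlgEquiv' (R := F) (n := Fin n ⊕ Fin n)).toRingEquiv.toMonoidHom
      (Matrix.toLinAlgEquiv' (R := F) (n := Fin n ⊕ Fin n)).injective _
  have h3 := hL hQ (g := Matrix.toLin' (A : Matrix (Fin n ⊕ Fin n) (Fin n ⊕ Fin n) F))
    (fun v => by rw [Matrix.toLin'_apply]; exact hQ2 v) h1 (by
      rw [Module.finrank_fintype_fun_eq_card, Fintype.card_sum, Fintype.card_fin]; omega)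
  rw [Module.finrank_fintype_fun_eq_card, Fintype.card_sum, Fintype.card_fin] at h3
  omega

theorem psp_of_lm [CharP F 2] {n : ℕ} (hn : 1 ≤ n) (hL : Lm F N d) (hnd : 2 * n < d) (m : PSp n F) :
    orderOf m ≠ N := by
  intro ho
  obtain ⟨A, hA⟩ := (Cfsg.Agent.H403.mem_range_PSp (F := F) (n := n) hn N).1 ⟨m, ho⟩
  exact sp_of_lm hL hnd A hA

end cons

end Cfsg.Agent.H320.Der
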