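import Cfsg.Agent.H320.Der.Pair
import Cfsg.Agent.H320.Der.F2
import Cfsg.Agent.H997.PF.RowsTop

/-!
# `RowS` for `PΩ⁻_{2m}(q)` (with three exceptions) and `PΩ⁺_{2m}(q)`, `m ≥ 5` (helper320, S3502)
-/

set_option autoImplicit false
set_option linter.unusedSectionVars false

namespace Cfsg.Agent.H320.Der

open Cfsg Cfsg.Geo Cfsg.Agent.OrdDiv Cfsg.Agent.H436 Cfsg.Agent.H264.GN Cfsg.Agent.H915.GN
  Cfsg.Agent.H938.Sax Cfsg.Agent.H884.El Cfsg.Agent.LieClassical.OmegaReindex
  Cfsg.Agent.LieClassical.OrthCore Cfsg.Agent.H955 Cfsg.Agent.H439.Der Cfsg.Agent.H377 Cfsg.Agent.H72.AdjOrth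
open Cfsg.Agent.H278.El.Asm (Kn)
open Cfsg.Agent.H997.PF (ominus_main oplus_res SocN no_of_blk exists_rs)
open scoped MatrixGroups

variable {F : Type} [Field F] [Fintype F]

/-- **`PΩ⁻_{2m}(q)`** -/
theorem rowS_ominus_gen (tab : OrderTable.{0}) (hK : Kn) {m : ℕ} (hm : 4 ≤ m) {a b : F}
    (hab : ∀ z₁ z₂ : F, z₁ ^ 2 + a * z₁ * z₂ + b * z₂ ^ 2 = 0 → z₁ = 0 ∧ z₂ = 0)
    (h42 : ¬ (m = 4 ∧ Nat.card F = 2)) (h52 : ¬ (m = 5 ∧ Nat.card F = 2)) (h43 : ¬ (m = 4 ∧ Nat.card F = 3)) :
    RowS (POmega F (quadFormMinus (m - 1) F a b)) := by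
  have hfin : Finite (POmega F (quadFormMinus (m - 1) F a b)) := Quotient.finite _
  exact RowS.of_pgap (ntc_minus hm hab h42 h52 h43) fun M hM => ominus_main tab hK hm hab hM.1

/-- **`PΩ⁺_{2m}(q)`, `m ≥ 5` odd.** -/
theorem rowS_oplus_odd (tab : OrderTable.{0}) (hK : Kn) {m : ℕ} (hm : 5 ≤ m) (ho : m % 2 = 1) :
    RowS (POmega F (quadFormPlus m F)) := by
  have hfin : Finite (POmega F (quadFormPlus m F)) := Quotient.finite _
  refine RowS.of_pgap (ntc_plus_five hm) fun M hM => ?_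
  rcases geo_plus_miss (F := F) (by omega : 4 ≤ m) (fun h => by omega) M with h | h | ⟨h, -⟩
  · exact h
  · rcases oplus_res tab hK hm hM.1 h with h | ⟨h, -⟩
    · exact h
    · omega
  · obtain ⟨k, hk⟩ := h
    omega

/-- `PGap` or no element of order `N` -/
theorem even_cases (tab : OrderTable.{0}) (hK : Kn) {k N f : ℕ} (hk : 3 ≤ k) (hN : N.Coprime (8 * f))
    (hpt : ∀ {M : Subgroup (POmega F (⇑(quadPlus (2 * k) F)))} {v : (Fin (2 * k) ⊕ Fin (2 * k)) → F},
      quadPlus (2 * k) F v ≠ 0 → pre (⇑(quadPlus (2 * k) F)) M ≤ subspaceStabilizer (Submodule.span F {v}) →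
      ∀ m ∈ M, orderOf m ≠ N)
    (hsoc : ∀ {S : Type} [Group S] {g : Grp}, (g = .psp (2 * k - 1) (Fintype.card F) ∨
      g = .oodd (2 * k - 1) (Fintype.card F)) → IsNamed g S → Blk S f N)
    {R : Subgroup (POmega F (quadFormPlus (2 * k) F))} (hR : R ≠ ⊤) :
    PGap (POmega F (quadFormPlus (2 * k) F)) R ∨ ∀ x ∈ R, orderOf x ≠ N := by
  have hgeo : ∀ K : Subgroup (POmega F (⇑(quadPlus (2 * k) F))), PGap (POmega F (⇑(quadPlus (2 * k) F))) K ∨
      InOrthogonalResidualClass (pre (⇑(quadPlus (2 * k) F)) K) ∨ ∀ x ∈ K, orderOf x ≠ N := by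
    intro K
    rcases plus_miss (m := 2 * k) (by omega) (card_plus (2 * k)) (nondeg_iff.2 quadPlus_nondegenerate)
      (isPlus_quadPlus (2 * k)) (fun h => by omega) (data_plus (by omega)) K with h | h | ⟨-, v, hv, hMv⟩
    · exact Or.inl h
    · exact Or.inr (Or.inl h)
    · exact Or.inr (Or.inr (hpt hv hMv))
  rw [coe_quadPlus] at hgeo
  rcases hgeo R with h | h | h
  · exact Or.inl h
  · rcases oplus_res tab hK (by omega) hR h with h | ⟨-, g, hg, S, hSn, hSs, hna', hC, hS, -⟩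
    · exact Or.inl h
    · exact Or.inr (no_of_blk S hC hN (hsoc hg hS))
  · exact Or.inr h

/-- `N` is prime to `r` -/
theorem not_dvd_two_pow {q k r : ℕ} (hk : 3 ≤ k) (hq : 1 ≤ q) (hr : PP q (2 * (k - 1)) r) : ¬ r ∣ q ^ (k + 1) + 1 := by
  intro h
  have h1 : r ∣ q ^ (2 * (k + 1)) - 1 := by
    have h2 : q ^ (2 * (k + 1)) - 1 = (q ^ (k + 1) + 1) * (q ^ (k + 1) - 1) := by
      rw [mul_comm 2, pow_mul]
      have := Nat.sq_sub_sq (q ^ (k + 1)) 1
      rwa [one_pow] at this
    rw [h2]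
    exact h.mul_right _
  have h3 := (hr.dvd_iff hq _).1 h1
  have h4 : k - 1 ∣ k + 1 := (Nat.mul_dvd_mul_iff_left (by norm_num)).1 h3
  have h5 : k - 1 ∣ 2 := by
    have h2 : k + 1 = (k - 1) + 2 := by omega
    rw [h2] at h4
    exact (Nat.dvd_add_right dvd_rfl).1 h4
  have h6 := Nat.le_of_dvd (by norm_num) h5
  have h7 : k = 3 := by omega
  subst h7
  have h8 : r ∣ q ^ 2 + 1 := dvd_pow_add_one hq (by norm_num) hr
  have h9 : r ∣ q ^ 4 - 1 := by
    have h2 : q ^ 4 - 1 = (q ^ 2 + 1) * (q ^ 2 - 1) := by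
      have := Nat.sq_sub_sq (q ^ 2) 1
      rw [one_pow] at this
      rw [← this]
      congr 1
      ring
    rw [h2]
    exact h8.mul_right _
  have h10 := Nat.dvd_sub h h9
  have h11 : 1 ≤ q ^ 4 := Nat.one_le_pow _ _ hq
  rw [show q ^ (3 + 1) + 1 - (q ^ 4 - 1) = 2 by
    have : q ^ (3 + 1) = q ^ 4 := rfl
    omega] at h10
  have h12 := Nat.le_of_dvd (by norm_num) h10
  have h13 := hr.lt (by omega)
  omega

/-- `PΩ⁺_{4k}(q)`, `k ≥ 3`, `(q, k) ≠ (2, 3), (2, 4)` -/
theorem rowS_even_gen (tab : OrderTable.{0}) (hK : Kn) {k : ℕ} (hk : 3 ≤ k)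
    (h2 : ¬ (Fintype.card F = 2 ∧ k ≤ 4)) : RowS (POmega F (quadFormPlus (2 * k) F)) := by
  have hfin : Finite (POmega F (quadFormPlus (2 * k) F)) := Quotient.finite _
  obtain ⟨p, f, hp, hf, hc, hf'⟩ := exists_pf F
  have := Fact.mk hp
  have hF : Fintype.card F = p ^ f := by rw [← Nat.card_eq_fintype_card, hc]
  obtain ⟨r, s, hN, hr, hs, -⟩ := exists_rs (k := k) hp hf hk (fun h => h2 ⟨by rw [hF, h.1], h.2.le⟩)
  have hq1 : 1 ≤ p ^ f := Nat.one_le_pow _ _ hp.pos
  have hsq : ¬ s ∣ Nat.card F := by rw [hc]; exact hs.not_dvd (by omega)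
  have hee : ee (Nat.card F) s = 2 * (k + 1) := by rw [hc]; exact hs.ord
  have heta : eta (ee (Nat.card F) s) = k + 1 := by
    rw [hee, eta, if_pos (even_two_mul _)]
    omega
  have hTh : Th (POmega F (quadFormPlus (2 * k) F)) (s * r) := by
    obtain ⟨N, hNo, hNt, hsN, hlt⟩ := exists_N1 hp hf hc hs.prime hsq (by omega) (fun h => h2 ⟨by
      rw [← Nat.card_eq_fintype_card]
      exact h.1, by omega⟩) (fun h => by omega)
    rw [heta] at hlt
    have hNd : N ∣ Nat.card F ^ (k + 1) + 1 := by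
      rw [tn, hee, if_pos (even_two_mul _), Nat.mul_div_cancel_left _ (by norm_num)] at hNt
      exact hNt
    have hcop : N.Coprime r := by
      rw [Nat.coprime_comm, hr.prime.coprime_iff_not_dvd]
      intro h
      exact not_dvd_two_pow hk hq1 hr (by rw [← hc]; exact h.trans hNd)
    have hcount := count_of (i := 1) (k := k + 1) (v := s) (f := f) (by omega) (by
      have := hs.lt (by omega)
      omega) hlt
    exact th_plus (m := 2 * k) (a := k - 1) (b := k + 1) (ε := -1) (by omega) (by omega) (by omega) (by norm_num)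
      hNo (hr.odd (by omega)) hcop (eltS_minus (by omega) hNo hNd)
      (elt_tor_minus (by omega) (by rw [hc]; exact dvd_pow_add_one hq1 (by omega) hr)) hs.prime hsN
      (by rw [hf']; rwa [one_mul] at hcount)
  refine RowS.of_three fun M hM => ?_
  rcases even_cases tab hK (F := F) (f := f) hk hN.2
    (fun {M v} hv hMv => plus_point_gap (nondeg_iff.2 quadPlus_nondegenerate) (data_plus (by omega)) hk
      (by rw [hc]; exact hN.1) (by rw [card_plus]; omega) hv hMv)
    (fun {S} _ {g} hg hS => by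
      rw [hF] at hg
      rcases hg with rfl | rfl
      · exact blk_psp hp hf hk hN hS
      · exact blk_oodd hp hf hk hN hS) hM.1 with h | h
  · exact Three.of_pgap (ntc_plus_five (by omega)) h
  · refine hTh.three fun x hx ho => h x hx ?_
    rw [ho, mul_comm]

/-! ### the field of two elements -/

theorem blk_of_lm {S : Type} [Group S] {n N d : ℕ} (hn : 3 ≤ n) (hnd : 2 * n < d)
    (hL : ∀ (F : Type) [Field F] [Fintype F], Fintype.card F = 2 → Lm F N d)
    (hS : IsNamed (.psp n 2) S) : Blk S 1 N := by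
  obtain ⟨F, _, _, hF, ⟨e⟩⟩ := hS.real
  have : Fact (Nat.Prime 2) := ⟨Nat.prime_two⟩
  have := charP_of Nat.prime_two le_rfl (show Fintype.card F = 2 ^ 1 by rw [hF, pow_one])
  have h1 := Cfsg.Agent.S0814.result (F := F) 2 1 le_rfl (by rw [hF, pow_one]) n (by omega) (fun h => by omega)
  rw [if_neg (fun h => by omega), one_mul] at h1
  refine Blk.congr e ⟨_, ?_, h1, psp_of_lm (by omega) (hL F hF) hnd⟩
  exact Nat.mul_dvd_mul_right ((Nat.gcd_dvd_left _ _).trans (by decide)) 1

theorem f_of_two (hF : Fintype.card F = 2) : Nat.card (F ≃+* F) = 1 :=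
  Cfsg.Agent.Lib.FieldAutCard.card_ringAut (p := 2) (f := 1) le_rfl (by rw [hF, pow_one])

theorem cases_of_lm (tab : OrderTable.{0}) (hK : Kn) (hF : Fintype.card F = 2) {k N : ℕ} (hk : 3 ≤ k)
    (hN : Odd N) (hL : ∀ (F : Type) [Field F] [Fintype F], Fintype.card F = 2 → Lm F N (4 * k))
    {R : Subgroup (POmega F (quadFormPlus (2 * k) F))} (hR : R ≠ ⊤) :
    PGap (POmega F (quadFormPlus (2 * k) F)) R ∨ ∀ x ∈ R, orderOf x ≠ N := by
  refine even_cases tab hK (F := F) (f := 1) hk (Nat.Coprime.pow_right 3 (Nat.coprime_two_right.2 hN))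
    (fun {M v} hv hMv => point_of_lm (hL F hF) hN (nondeg_iff.2 quadPlus_nondegenerate) (data_plus (by omega))
      (by rw [card_plus]; omega) hv hMv) (fun {S} _ {g} hg hS => ?_) hR
  rw [hF] at hg
  rcases hg with rfl | rfl
  · exact blk_of_lm (by omega) (by omega) hL hS
  · exact absurd hS.cond.2.1 (by decide)

theorem rowS_oplus_six_two (tab : OrderTable.{0}) (hK : Kn) (hF : Fintype.card F = 2) :
    RowS (POmega F (quadFormPlus 6 F)) := by
  have hfin : Finite (POmega F (quadFormPlus 6 F)) := Quotient.finite _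
  have hc : Nat.card F = 2 := by rw [Nat.card_eq_fintype_card, hF]
  have h85 : NumP 2 1 3 85 := by
    refine ⟨Or.inr ⟨5, 17, by norm_num, ⟨by norm_num, ?_⟩, ⟨by norm_num, ?_⟩⟩, by decide⟩
    · rw [pow_one]
      refine (orderOf_eq_iff (by norm_num)).2 ⟨by decide, fun m hm hm0 => ?_⟩
      interval_cases m <;> decide
    · rw [pow_one]
      refine (orderOf_eq_iff (by norm_num)).2 ⟨by decide, fun m hm hm0 => ?_⟩
      interval_cases m <;> decide
  have htw : Tw (POmega F (quadFormPlus 6 F)) (17 * 5) :=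
    tw_plus (m := 6) (a := 2) (b := 4) (ε := -1) (by norm_num) (by norm_num) (by norm_num) (by norm_num) (by decide)
      (by norm_num) (by decide) (by norm_num) (eltS_minus (by norm_num) (by decide) (by rw [hc]; norm_num))
      (elt_tor_minus (by norm_num) (by rw [hc]; norm_num)) (by
        rw [f_of_two hF, Nat.totient_prime (by norm_num)]
        norm_num)
  have h63 : ∃ x : POmega F (quadFormPlus 6 F), orderOf x = 63 :=
    (gp_plus_five (by norm_num)).of_odd (by decide) (elt_tor_plus (by norm_num) (by rw [hc]; norm_num))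
  refine RowS.of_three fun M hM => ?_
  rcases cases_of_lm tab hK hF (k := 3) (N := 63) le_rfl (by decide) (fun F _ _ hF => lm63 hF) hM.1 with h | h
  · exact Three.of_pgap (ntc_plus_five (by omega)) h
  rcases even_cases tab hK (F := F) (f := 1) (k := 3) (N := 85) le_rfl h85.2
    (fun {M v} hv hMv => plus_point_gap (nondeg_iff.2 quadPlus_nondegenerate) (data_plus (by omega)) le_rfl
      (by rw [hc]; exact h85.1) (by rw [card_plus]) hv hMv)
    (fun {S} _ {g} hg hS => by
      rw [hF] at hg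
      rcases hg with rfl | rfl
      · exact blk_psp Nat.prime_two le_rfl le_rfl h85 hS
      · exact absurd hS.cond.2.1 (by decide)) hM.1 with h' | h'
  · exact Three.of_pgap (ntc_plus_five (by omega)) h'
  · exact htw.three h' h63 h (by norm_num)

theorem rowS_oplus_eight_two (tab : OrderTable.{0}) (hK : Kn) (hF : Fintype.card F = 2) :
    RowS (POmega F (quadFormPlus 8 F)) := by
  have hfin : Finite (POmega F (quadFormPlus 8 F)) := Quotient.finite _
  have hc : Nat.card F = 2 := by rw [Nat.card_eq_fintype_card, hF]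
  have hTh : Th (POmega F (quadFormPlus 8 F)) (31 * 7) :=
    th_plus (m := 8) (a := 3) (b := 5) (ε := 1) (by norm_num) (by norm_num) (by norm_num) (by norm_num) (by decide)
      (by decide) (by norm_num) (eltS_plus (by norm_num) (by rw [hc]; norm_num))
      (elt_tor_plus (by norm_num) (by rw [hc]; norm_num)) (by norm_num) dvd_rfl (by
        rw [f_of_two hF]
        norm_num)
  refine RowS.of_three fun M hM => ?_
  rcases cases_of_lm tab hK hF (k := 4) (N := 217) (by norm_num) (by decide) (fun F _ _ hF => lm217 hF) hM.1 with h | h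
  · exact Three.of_pgap (ntc_plus_five (by omega)) h
  · exact hTh.three h

/-- **`PΩ⁺_{2m}(q)`, `m ≥ 5`** -/
theorem rowS_oplus_five (tab : OrderTable.{0}) (hK : Kn) {m : ℕ} (hm : 5 ≤ m) :
    RowS (POmega F (quadFormPlus m F)) := by
  rcases Nat.even_or_odd m with ⟨k, hk⟩ | ho
  · obtain rfl : m = 2 * k := by omega
    by_cases h2 : Fintype.card F = 2 ∧ k ≤ 4
    · obtain ⟨hF, hk4⟩ := h2
      have : k = 3 ∨ k = 4 := by omega
      rcases this with rfl | rfl
      · exact rowS_oplus_six_two tab hK hF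
      · exact rowS_oplus_eight_two tab hK hF
    · exact rowS_even_gen tab hK (by omega) h2
  · exact rowS_oplus_odd tab hK hm (Nat.odd_iff.1 ho)

end Cfsg.Agent.H320.Der
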