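import Cfsg.Agent.H320.Der.Orb2
import Cfsg.Agent.H320.Der.Pair
import Cfsg.Agent.ClassicalGeometry.TrialityFinal

/-!
# `PΩ⁺_8(q)`: classes of the elements of order `N₀(q)` in the torus of order `q ^ 4 - 1` (helper320, S3502)
-/

set_option autoImplicit false
set_option linter.unusedSectionVars false

namespace Cfsg.Agent.H320.Der

open Module Subgroup QuadraticMap Cfsg.Agent.H439.Der
open Cfsg.Agent.LieClassical.OrthCore Cfsg.Agent.LieClassical.OrthTrans Cfsg.Agent.AutOrth.SemiSim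
  Cfsg.Agent.AutOrth.Gen Cfsg.Agent.ClassicalGeometry.OrthAut1 Cfsg.Agent.AutOrth.Main
  Cfsg.Agent.LieClassical.QuadForms Cfsg.Agent.H377
open Cfsg.Agent.ClassicalGeometry Cfsg.Agent.ClassicalGeometry.TrialityIndex
  Cfsg.Agent.ClassicalGeometry.TrialitySpaces

universe u

section torus

variable (F : Type u) [Field F] [Fintype F]

/-- the torus of order `q ^ 4 - 1` and an invariant totally singular subspace -/
theorem exists_torus : ∃ (g : Module.End F (Fin 4 ⊕ Fin 4 → F)) (W : Submodule F (Fin 4 ⊕ Fin 4 → F)),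
    (∀ v, plusForm 4 F (g v) = plusForm 4 F v) ∧ orderOf g = Nat.card F ^ 4 - 1 ∧ Sr g (Nat.card F ^ 4 - 1) ∧
      (∀ w ∈ W, plusForm 4 F w = 0) ∧ finrank F W = 4 ∧ ∀ w ∈ W, g w ∈ W := by
  obtain ⟨p, _⟩ := CharP.exists F
  have : Fact p.Prime := ⟨CharP.char_is_prime F p⟩
  let K := FiniteField.Extension F p 4
  have hfr : Module.finrank F K = 4 := FiniteField.finrank_extension F p 4
  obtain ⟨l, hl⟩ := IsCyclic.exists_ofOrder_eq_natCard (α := Kˣ)
  have hcK : Nat.card K = Nat.card F ^ 4 := FiniteField.natCard_extension F p 4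
  rw [Nat.card_units, hcK] at hl
  let g : Module.End F (K × K) := (LinearMap.mulLeft F (l : K)).prodMap (LinearMap.mulLeft F ((l⁻¹ : Kˣ) : K))
  have hg : ∀ (k : ℕ) (v : K × K), (g ^ k) v = (((l ^ k : Kˣ) : K) * v.1, (((l ^ k)⁻¹ : Kˣ) : K) * v.2) := by
    intro k
    induction k with
    | zero => intro v; simp
    | succ k ih =>
      intro v
      rw [pow_succ, Module.End.mul_apply, ih]
      change (((l ^ k : Kˣ) : K) * ((l : K) * v.1), (((l ^ k)⁻¹ : Kˣ) : K) * (((l⁻¹ : Kˣ) : K) * v.2)) = _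
      rw [pow_succ, mul_inv_rev, Units.val_mul, Units.val_mul, mul_assoc]
      congr 1
      rw [mul_comm ((l⁻¹ : Kˣ) : K) (((l ^ k)⁻¹ : Kˣ) : K), mul_assoc]
  let Q : QuadraticForm F (K × K) := (Algebra.trace F K).compQuadraticMap' (hypQ K)
  have hQ' : ∀ v, Q v = Algebra.trace F K (v.1 * v.2) := fun v => rfl
  have hnd : Nondeg Q := by
    have key : ∀ a : K, (∀ c : K, Algebra.trace F K (c * a) = 0) → a = 0 := by
      intro a ha
      by_contra hne
      obtain ⟨t, ht⟩ := Algebra.trace_surjective F K 1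
      have h5 := ha (t * a⁻¹)
      rw [mul_assoc, inv_mul_cancel₀ hne, mul_one, ht] at h5
      exact one_ne_zero h5
    intro x hx
    apply Prod.ext
    · refine key _ fun c => ?_
      have h2 := hx (0, c)
      simp only [polar, hQ', Prod.fst_add, Prod.snd_add, add_zero, zero_mul, map_zero, sub_zero] at h2
      rw [← map_sub] at h2
      rw [← h2]
      congr 1
      ring
    · refine key _ fun c => ?_
      have h2 := hx (c, 0)
      simp only [polar, hQ', Prod.fst_add, Prod.snd_add, add_zero, mul_zero, map_zero, sub_zero] at h2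
      rw [← map_sub] at h2
      rw [← h2]
      congr 1
      ring
  have hs : HasSign (⇑Q) 4 1 := by
    have h := (hasSign_mul (F := K)).res (F := F)
    rw [hfr] at h
    exact h
  have hfin : Finite (K × K) := inferInstance
  obtain ⟨e, he⟩ := exists_plus (F := F) (V := K × K) (m := 4) (by norm_num)
    (by rw [Module.finrank_prod, hfr]) Q hnd hs
  have he' : ∀ v, plusForm 4 F v = Q (e v) := fun v => by rw [he, coe_plusForm]
  let g' : Module.End F (Fin 4 ⊕ Fin 4 → F) := (e.symm : (K × K) →ₗ[F] _).comp (g.comp (e : _ →ₗ[F] (K × K)))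
  have hg' : ∀ (k : ℕ) (v : Fin 4 ⊕ Fin 4 → F), (g' ^ k) v = e.symm ((g ^ k) (e v)) := by
    intro k
    induction k with
    | zero => intro v; simp
    | succ k ih =>
      intro v
      rw [pow_succ, Module.End.mul_apply, ih, pow_succ, Module.End.mul_apply]
      change e.symm ((g ^ k) (e (e.symm (g (e v))))) = _
      rw [e.apply_symm_apply]
  have hgv : ∀ v, g v = ((l : K) * v.1, ((l⁻¹ : Kˣ) : K) * v.2) := fun v => rfl
  refine ⟨g', LinearMap.range ((e.symm : (K × K) →ₗ[F] _).comp (LinearMap.inl F K K)), ?_, ?_, ?_, ?_, ?_, ?_⟩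
  · intro v
    rw [he', he']
    change Q (e (e.symm (g (e v)))) = _
    rw [e.apply_symm_apply, hQ', hQ', hgv]
    congr 1
    change (l : K) * (e v).1 * (((l⁻¹ : Kˣ) : K) * (e v).2) = _
    have h1 : (l : K) * ((l⁻¹ : Kˣ) : K) = 1 := Units.mul_inv l
    linear_combination (e v).1 * (e v).2 * h1
  · rw [← hl, orderOf_eq_orderOf_iff]
    intro k
    constructor
    · intro h
      have h1 := hg' k (e.symm (1, 0))
      rw [h, Module.End.one_apply, e.apply_symm_apply, hg] at h1
      have h2 := congrArg Prod.fst (e.symm.injective h1)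
      simp only [mul_one] at h2
      exact Units.ext h2.symm
    · intro h
      refine LinearMap.ext fun v => ?_
      rw [hg', hg, h]
      simp
  · intro v hv j hj
    rw [hg'] at hj
    have hj' : (g ^ j) (e v) = e v := by
      apply e.symm.injective
      rw [hj, e.symm_apply_apply]
    rw [hg] at hj'
    rw [← hl]
    apply orderOf_dvd_of_pow_eq_one
    have h1 := congrArg Prod.fst hj'
    have h2 := congrArg Prod.snd hj'
    change ((l ^ j : Kˣ) : K) * (e v).1 = (e v).1 at h1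
    change (((l ^ j)⁻¹ : Kˣ) : K) * (e v).2 = (e v).2 at h2
    by_cases hv1 : (e v).1 = 0
    · have hv2 : (e v).2 ≠ 0 := by
        intro h0
        apply hv
        rw [← LinearEquiv.map_eq_zero_iff e]
        exact Prod.ext hv1 h0
      have h3 : (((l ^ j)⁻¹ : Kˣ) : K) = 1 := mul_right_cancel₀ hv2 (by rw [h2, one_mul])
      exact inv_eq_one.1 (Units.ext h3)
    · have h3 : ((l ^ j : Kˣ) : K) = 1 := mul_right_cancel₀ hv1 (by rw [h1, one_mul])
      exact Units.ext h3
  · rintro _ ⟨a, rfl⟩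
    rw [he']
    change Q (e (e.symm (LinearMap.inl F K K a))) = 0
    rw [e.apply_symm_apply, hQ']
    simp
  · rw [LinearMap.finrank_range_of_inj, hfr]
    intro a b hab
    exact LinearMap.inl_injective (e.symm.injective hab)
  · rintro _ ⟨a, rfl⟩
    refine ⟨(l : K) * a, ?_⟩
    change e.symm (LinearMap.inl F K K ((l : K) * a)) = e.symm (g (e (e.symm (LinearMap.inl F K K a))))
    rw [e.apply_symm_apply, hgv]
    simp

end torus

/-- the number `N₀(q)` -/
def M0 (q : ℕ) : ℕ := if Odd q then (q ^ 4 - 1) / 4 else q ^ 4 - 1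

theorem eight_dvd {q : ℕ} (h : Odd q) : 8 ∣ q ^ 4 - 1 := by
  obtain ⟨k, rfl⟩ := h
  have h1 : (2 * k + 1) ^ 4 - 1 = 8 * (2 * k ^ 4 + 4 * k ^ 3 + 3 * k ^ 2 + k) := by
    have : (2 * k + 1) ^ 4 = 8 * (2 * k ^ 4 + 4 * k ^ 3 + 3 * k ^ 2 + k) + 1 := by ring
    omega
  rw [h1]
  exact dvd_mul_right _ _

section elt

variable {F : Type u} [Field F] [Fintype F]

/-- the element -/
def Elm (F : Type u) [Field F] [Fintype F] (N : ℕ) : Prop :=
  ∃ z : ↥(E (plusForm 4 F)), orderOf ((z : ↥(E (plusForm 4 F))) : P (plusForm 4 F)) = N ∧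
    (∀ A : Subgroup (MulAut (P (plusForm 4 F))), (∀ α ∈ A, Pt (good_plus (F := F) (m := 4) (by norm_num)) α) →
      Orb A {y : P (plusForm 4 F) | y ∈ zpowers ((z : ↥(E (plusForm 4 F))) : P (plusForm 4 F)) ∧ N ∣ orderOf y}
        (Nat.card (F ≃+* F) * 8)) ∧
    (∀ y : Fin 4 ⊕ Fin 4 → F, plusForm 4 F y = 0 → y ≠ 0 →
      ((z : ↥(E (plusForm 4 F))) : P (plusForm 4 F)) ∉
        stab (good_plus (F := F) (m := 4) (by norm_num)) (Submodule.span F {y})) ∧
    ∃ W : Submodule F (Fin 4 ⊕ Fin 4 → F), (∀ w ∈ W, plusForm 4 F w = 0) ∧ finrank F W = 4 ∧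
      ((z : ↥(E (plusForm 4 F))) : P (plusForm 4 F)) ∈ stab (good_plus (F := F) (m := 4) (by norm_num)) W

theorem not_pt {g : Module.End F (Fin 4 ⊕ Fin 4 → F)} (hr : Sr g (Nat.card F ^ 4 - 1)) {t : ℕ} (ht : 1 ≤ t)
    (ht2 : t ≤ 2) {z : ↥(E (plusForm 4 F))} (hz : ∀ v, lin z v = (g ^ t) v) {y : Fin 4 ⊕ Fin 4 → F} (hy0 : y ≠ 0) :
    ((z : ↥(E (plusForm 4 F))) : P (plusForm 4 F)) ∉
      stab (good_plus (F := F) (m := 4) (by norm_num)) (Submodule.span F {y}) := by
  intro hmem
  have h1 := apply_mem_of_mem_stab hmem (Submodule.mem_span_singleton_self y)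
  obtain ⟨c, hc⟩ := Submodule.mem_span_singleton.1 h1
  have hcy : lin z y = c • y := by rw [hc]; rfl
  have hc0 : c ≠ 0 := by
    rintro rfl
    rw [zero_smul, lin_apply] at hcy
    exact hy0 ((LinearEquiv.map_eq_zero_iff _).1 hcy)
  have hpow : ∀ n : ℕ, (g ^ (t * n)) y = c ^ n • y := by
    intro n
    induction n with
    | zero => simp
    | succ n ih =>
      rw [Nat.mul_succ, add_comm, pow_add, Module.End.mul_apply, ih, map_smul, ← hz, hcy, smul_smul, pow_succ]
  have h2 := hpow (Nat.card F - 1)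
  have hcq : c ^ (Nat.card F - 1) = 1 := by
    rw [Nat.card_eq_fintype_card]
    exact FiniteField.pow_card_sub_one_eq_one c hc0
  rw [hcq, one_smul] at h2
  have h3 := hr y hy0 _ h2
  have hq : 2 ≤ Nat.card F := Finite.one_lt_card
  have h4 := Nat.le_of_dvd (Nat.mul_pos ht (by omega)) h3
  have h5 : t * (Nat.card F - 1) ≤ 2 * (Nat.card F - 1) := Nat.mul_le_mul_right _ ht2
  have h6 : Nat.card F ^ 4 = Nat.card F * Nat.card F ^ 3 := by ring
  have h7 : 2 ^ 3 ≤ Nat.card F ^ 3 := Nat.pow_le_pow_left hq 3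
  have h8 : Nat.card F * 2 ^ 3 ≤ Nat.card F * Nat.card F ^ 3 := Nat.mul_le_mul_left _ h7
  omega

theorem exists_elm : Elm F (M0 (Nat.card F)) := by
  have hq : 2 ≤ Nat.card F := Finite.one_lt_card
  have hG : Good (plusForm 4 F) := good_plus (F := F) (m := 4) (by norm_num)
  have := finite_P (Q := plusForm 4 F)
  obtain ⟨g, W, hg, ho, hr, hW, hW4, hWi⟩ := exists_torus F
  have hK : 2 ^ 4 ≤ Nat.card F ^ 4 := Nat.pow_le_pow_left hq 4
  have h7 : 7 ≤ finrank F (Fin 4 ⊕ Fin 4 → F) := by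
    rw [Module.finrank_fintype_fun_eq_card, Fintype.card_sum, Fintype.card_fin]
    norm_num
  have hev : HasEV g (Nat.card F ^ 4 - 1) := hasEV_of_semi (by omega) ho hr
  have hrk : ∀ z : ↥(E (plusForm 4 F)), finrank F (LinearMap.range (lin z - 1)) ≤ 8 := fun z =>
    (Submodule.finrank_le _).trans (by
      rw [Module.finrank_fintype_fun_eq_card, Fintype.card_sum, Fintype.card_fin])
  rcases Nat.even_or_odd (Nat.card F) with he | hodd
  · have hM : M0 (Nat.card F) = Nat.card F ^ 4 - 1 := by rw [M0, if_neg (Nat.not_odd_iff_even.2 he)]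
    have hN : Odd (Nat.card F ^ 4 - 1) := Nat.Even.sub_odd (by omega) (he.pow_of_ne_zero (by norm_num)) odd_one
    obtain ⟨z, hz⟩ := exists_E' (plusForm 4 F) hG (by rw [Fintype.card_sum, Fintype.card_fin]; norm_num)
      (⇑(plusForm 4 F)) (LinearEquiv.refl F _) (fun _ => rfl) g hg hN (by rw [← ho]; exact pow_orderOf_eq_one g)
    have hz' : ∀ v, lin z v = g v := hz
    have hlin : lin z = g := LinearMap.ext hz'
    have hoz : orderOf z = Nat.card F ^ 4 - 1 := by rw [← orderOf_lin, hlin, ho]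
    rw [hM]
    refine ⟨z, by rw [orderOf_mk hG (by rwa [hoz]), hoz], fun A hA => ?_, fun y _ hy0 => ?_, W, hW, hW4, ?_⟩
    · exact orb_spec hG h7 hA hN hoz (by rw [hlin]; exact hev) (hrk z) (by omega)
    · exact not_pt hr le_rfl (by norm_num) (by intro v; rw [pow_one]; exact hz' v) hy0
    · refine mem_stab_of_map_le hG fun w hw => ?_
      have h1 := hWi w hw
      rw [← hz'] at h1
      exact h1
  · obtain ⟨c, hc⟩ := eight_dvd hodd
    have hM : M0 (Nat.card F) = 2 * c := by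
      rw [M0, if_pos hodd, hc]
      omega
    have hc0 : 0 < c := by
      rcases Nat.eq_zero_or_pos c with h | h
      · rw [h] at hc
        omega
      · exact h
    obtain ⟨z0, hz0⟩ := exists_omega (plusForm 4 F) hG.nondeg (by rw [Fintype.card_sum, Fintype.card_fin]; norm_num)
      (⇑(plusForm 4 F)) (LinearEquiv.refl F _) (fun _ => rfl) g hg
    have hz' : ∀ v, lin (oe hG z0) v = (g ^ 2) v := fun v => by
      rw [lin_apply, oe_apply, hz0, pow_two, Module.End.mul_apply]
      rfl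
    have hlin : lin (oe hG z0) = g ^ 2 := LinearMap.ext hz'
    have hoz : orderOf (oe hG z0) = 2 * (2 * c) := by
      rw [← orderOf_lin, hlin, orderOf_pow' g two_ne_zero, ho, hc]
      have h1 : (8 * c).gcd 2 = 2 := Nat.gcd_eq_right ⟨4 * c, by ring⟩
      rw [h1]
      omega
    have hneg : ∀ v, (((oe hG z0) ^ (2 * c) : ↥(E (plusForm 4 F))) : (Fin 4 ⊕ Fin 4 → F) ≃ₗ[F] (Fin 4 ⊕ Fin 4 → F)) v
        = -v := by
      intro v
      have h1 : lin ((oe hG z0) ^ (2 * c)) = g ^ (4 * c) := by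
        rw [map_pow, hlin, ← pow_mul]
        congr 1
        ring
      have h2 : (g ^ (4 * c)) ((g ^ (4 * c)) v) = v := by
        rw [← Module.End.mul_apply, ← pow_add, show 4 * c + 4 * c = Nat.card F ^ 4 - 1 by omega, ← ho,
          pow_orderOf_eq_one]
        rfl
      rw [← lin_apply, h1]
      by_contra hne
      have h3 : (g ^ (4 * c)) v + v ≠ 0 := fun h => hne (eq_neg_of_add_eq_zero_left h)
      have h4 := hr _ h3 (4 * c) (by rw [map_add, h2, add_comm])
      have h5 := Nat.le_of_dvd (by omega) h4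
      omega
    rw [hM]
    refine ⟨oe hG z0, orderOf_mk_even hG hoz hneg, fun A hA => ?_, fun y _ hy0 => ?_, W, hW, hW4, ?_⟩
    · refine orb_even hG h7 hA (even_two_mul c) (by omega) hoz hneg ?_ (hrk _)
      rw [hlin]
      refine hev.pow ?_ (by omega)
      rw [hc, Nat.gcd_eq_right ⟨4 * c, by ring⟩]
      omega
    · exact not_pt hr (by norm_num) le_rfl hz' hy0
    · refine mem_stab_of_map_le hG fun w hw => ?_
      have h1 := hWi _ (hWi w hw)
      have h2 := hz' w
      rw [pow_two, Module.End.mul_apply] at h2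
      rw [← h2] at h1
      exact h1

theorem gens {T : Type*} [Group T] [Finite T] {g x : T} {N : ℕ} (hg : orderOf g = N)
    (hx : x ∈ zpowers g ∧ N ∣ orderOf x) : g ∈ zpowers x := by
  have h1 : orderOf x = N := Nat.dvd_antisymm (by rw [← hg]; exact orderOf_dvd_of_mem_zpowers hx.1) hx.2
  exact mem_zpowers_of_order hx.1 (mem_zpowers g) (by rw [h1, hg])

/-- **three classes of elements of order `N₀(q)`** -/
theorem th_elm {N : ℕ} (h : Elm F N) (hN : 32 * Nat.card (F ≃+* F) < N.totient) :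
    Th (Cfsg.POmega F (Cfsg.quadFormPlus 4 F)) N := by
  have hG : Good (plusForm 4 F) := good_plus (F := F) (m := 4) (by norm_num)
  have := finite_P (Q := plusForm 4 F)
  obtain ⟨z, ho, horb, hpt, W, hW, hW4, hzW⟩ := h
  obtain ⟨Γ, hΓ, hind⟩ := Cfsg.Agent.ClassicalGeometry.TrialityFinal.exists_index_three hG fun α x hx hx0 => by
      rcases Cfsg.Agent.ClassicalGeometry.OrthAut3.dichotomy hG (by simp) α hx hx0 with h | h
      · exact Or.inl h
      · exact Or.inr h.2
  have hex : ∃ (τ : MulAut (P (plusForm 4 F))) (y : Fin 4 ⊕ Fin 4 → F), plusForm 4 F y = 0 ∧ y ≠ 0 ∧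
      (stab hG W).map τ.toMonoidHom = stab hG (Submodule.span F {y}) := by
    obtain ⟨y, hy, hy0, rfl | rfl⟩ := isOct_of_singular hW hW4
    · obtain ⟨τ, hτ⟩ := Triality.exists_tau_xO hG
      exact ⟨τ, y, hy, hy0, hτ y hy hy0⟩
    · obtain ⟨τ, hτ⟩ := Triality.exists_tau_Ox hG
      exact ⟨τ, y, hy, hy0, hτ y hy hy0⟩
  obtain ⟨τ, y, hy, hy0, hτ⟩ := hex
  set S : Set (P (plusForm 4 F)) :=
    {x | x ∈ zpowers ((z : ↥(E (plusForm 4 F))) : P (plusForm 4 F)) ∧ N ∣ orderOf x} with hS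
  have hE : Ex Γ S τ⁻¹ := by
    intro x hx φ hφ a ha hφa
    -- the point
    obtain ⟨p, hp, hp0, hap⟩ := (hΓ _).1 (Γ.inv_mem ha) y hy hy0
    have h1 : (stab hG (Submodule.span F {p})).map φ⁻¹.toMonoidHom = stab hG W := by
      rw [hφa, map_mulAut_mul, ← hap, map_mulAut_inv', ← hτ, map_mulAut_inv]
    have h2 : x ∈ stab hG W := by
      have h3 : zpowers ((z : ↥(E (plusForm 4 F))) : P (plusForm 4 F)) ≤ stab hG W := by
        rw [zpowers_le]
        exact hzW
      exact h3 hx.1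
    rw [← h1] at h2
    obtain ⟨x', hx', hx''⟩ := h2
    have h4 : φ x = x' := by
      rw [← hx'']
      exact MulAut.apply_inv_self _ φ x'
    have h5 := gens ho hφ
    rw [h4] at h5
    have h6 : zpowers x' ≤ stab hG (Submodule.span F {p}) := by
      rw [zpowers_le]
      exact hx'
    exact hpt p hp hp0 (h6 h5)
  have hcard : N.totient ≤ Nat.card S := card_gen ho
  obtain ⟨a, b, c, ha, hb, hc, h1, h2, h3⟩ := exists_three_ex (horb Γ fun α hα => (hΓ α).1 hα) hE (by
    rw [hind]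
    omega)
  rw [← coe_plusForm]
  exact Th.congr (pe hG).symm ⟨a, b, c, ha.2, hb.2, hc.2, h1, h2, h3⟩

end elt

end Cfsg.Agent.H320.Der
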