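import Cfsg.Agent.H320.Der.Even
import Cfsg.Agent.H938.Sax.PEight
import Cfsg.Agent.H833.PlusNe

/-!
# `PΩ⁺_8(q)`, `q ≥ 4`: proper subgroups miss a prime or have no elements of order `N₀(q)` (helper320, S3502)

After `H938/Sax/PEight.lean` and `H997/PF/RowsCl.lean`.
-/

set_option autoImplicit false
set_option linter.unusedSectionVars false

namespace Cfsg.Agent.H320.Der

open Module QuadraticMap Cfsg Cfsg.Geo Cfsg.Agent.OrdDiv Cfsg.Agent.H436 Cfsg.Agent.H264.FKS Cfsg.Agent.H264.GN
  Cfsg.Agent.H915.GN Cfsg.Agent.H938.Sax Cfsg.Agent.H884.El Cfsg.Agent.H278.El.Asm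
  Cfsg.Agent.LieClassical.OmegaReindex Cfsg.Agent.LieClassical.OrthCore Cfsg.Agent.H955 Cfsg.Agent.LieClassical
open Cfsg.Agent.H278.El.SporNum (IsCl exc)
open Cfsg.Agent.H278.El.AltNum (dimOf surv)
open Cfsg.Agent.H884.Cx (excP)

open Cfsg.Agent.H938.Sax.Ord (Lcm)
open scoped MatrixGroups Matrix

universe u

section rows

variable {p f : ℕ} {T : Type u} [Group T] [Finite T]

/-- subgroups with socle `PSp_6(q)`, `Ω_7(q)` have no elements of order `N₀(q)` -/
theorem miss_eight {R : Subgroup T} (hp : p.Prime) (hf : 1 ≤ f) (hq : 4 ≤ p ^ f) (S : Subgroup R) [S.Normal]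
    (hC : Subgroup.centralizer (S : Set R) = ⊥)
    (hS : IsNamed (.psp 3 (p ^ f)) S ∨ IsNamed (.oodd 3 (p ^ f)) S)
    (hcard : p ^ f % 4 = 1 → Nat.card R ≠ Nat.card (MulAut S)) : ∀ x ∈ R, orderOf x ≠ N0 (p ^ f) := by
  have : Fact p.Prime := ⟨hp⟩
  obtain ⟨r, hr'⟩ := exists_pp (q := p) (e := f * 4) hp.two_le (by omega) (fun h => by omega)
  have hr := hr'.of_pow hf
  have hlt := hr'.lt (by omega)
  -- the automorphism group of the socle
  have hmul : Nat.card (MulAut S) = (Nat.gcd 2 (p ^ f - 1) * f) * Nat.card S := by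
    rcases hS with hS | hS
    · obtain ⟨F, _, _, hF, ⟨e⟩⟩ := hS.real
      have h3 := Cfsg.Agent.S0814.result (F := F) p f hf hF 3 (by omega) (fun h => by omega)
      rw [← Nat.card_congr e.toEquiv, ← Nat.card_congr (MulAut.congr e).toEquiv, if_neg (by omega), one_mul] at h3
      exact h3
    · obtain ⟨F, _, _, hF, ⟨e⟩⟩ := hS.real
      have hodd : Odd p := by
        have h5 := hS.cond.2.1
        rwa [Nat.odd_pow_iff (by omega)] at h5
      have h3 := Cfsg.Agent.S0816.result (F := F) p f hf hF hodd 3 le_rfl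
      rw [← Nat.card_congr e.toEquiv, ← Nat.card_congr (MulAut.congr e).toEquiv] at h3
      rw [h3, Nat.gcd_eq_left ((hodd.pow (n := f)).tsub_odd odd_one).two_dvd]
  have hidx := Cfsg.Agent.H938.Sax.index_dvd S hC hmul
  have hc2 : Nat.gcd 2 (p ^ f - 1) ≤ 2 := Nat.gcd_le_left _ (by norm_num)
  have hc0 : 0 < Nat.gcd 2 (p ^ f - 1) := Nat.gcd_pos_of_pos_left _ (by norm_num)
  have hle : S.index ≤ 2 * f := (Nat.le_of_dvd (Nat.mul_pos hc0 (by omega)) hidx).trans (Nat.mul_le_mul_right f hc2)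
  have hpos : 0 < S.index := Nat.pos_of_ne_zero fun h => by
    rw [h, zero_dvd_iff] at hidx
    rcases Nat.mul_eq_zero.1 hidx with h | h <;> omega
  intro m hm ho
  have h1 : orderOf (⟨m, hm⟩ : R) = N0 (p ^ f) := by rw [← ho, ← Subgroup.orderOf_coe]
  have h2 : (⟨m, hm⟩ : R) ^ S.index ∈ S := Subgroup.pow_index_mem S _
  have hdv : orderOf (⟨_, h2⟩ : S) ∣ N0 (p ^ f) := by
    rw [Subgroup.orderOf_mk, ← h1]
    exact orderOf_pow_dvd _
  have hrd : r ∣ orderOf (⟨_, h2⟩ : S) := by
    rw [Subgroup.orderOf_mk]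
    have h3 : N0 (p ^ f) ∣ S.index * orderOf ((⟨m, hm⟩ : R) ^ S.index) := by
      rw [← h1]
      exact orderOf_dvd_of_pow_eq_one (by rw [pow_mul, pow_orderOf_eq_one])
    rcases hr.prime.dvd_mul.1 ((pp_dvd_N0 (by omega) hr).trans h3) with h4 | h4
    · have := Nat.le_of_dvd hpos h4
      omega
    · exact h4
  have hL : Lcm (p ^ f) (⟨_, h2⟩ : S) := by
    rcases hS with hS | hS
    · obtain ⟨F, _, _, hF, ⟨e⟩⟩ := hS.real
      refine lcm_of_injective e.toMonoidHom e.injective ?_
      have h3 : orderOf (e.toMonoidHom (⟨_, h2⟩ : S)) = orderOf (⟨_, h2⟩ : S) := orderOf_injective _ e.injective _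
      rw [← hF]
      rw [← hF] at hdv
      refine lcm_psp (r := r) (by rw [Nat.card_eq_fintype_card, hF]; exact hr) (by rw [h3]; exact hrd) ?_
      rw [h3]
      exact cast_ne_zero hdv
    · obtain ⟨F, _, _, hF, ⟨e⟩⟩ := hS.real
      refine lcm_of_injective e.toMonoidHom e.injective ?_
      have h3 : orderOf (e.toMonoidHom (⟨_, h2⟩ : S)) = orderOf (⟨_, h2⟩ : S) := orderOf_injective _ e.injective _
      have hodd : Odd (Fintype.card F) := hF ▸ hS.cond.2.1
      have h2F := H390.two_ne_zero_of_odd hodd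
      rw [← hF]
      rw [← hF] at hdv
      have key : ∀ y : POmega F (⇑(quadOdd 3 F)), r ∣ orderOf y → ((orderOf y : ℕ) : F) ≠ 0 →
          Lcm (Fintype.card F) y := fun y h6 h7 =>
        lcm_seven h2F (nondeg_iff.2 (quadOdd_nondegenerate h2F)) (data_odd le_rfl h2F)
          (by rw [Nat.card_eq_fintype_card, hF]; exact hr) h6 h7 (card_odd 3)
      rw [coe_quadOdd] at key
      refine key _ (by rw [h3]; exact hrd) ?_
      rw [h3]
      exact cast_ne_zero hdv
  have hL' : Lcm (p ^ f) ((⟨m, hm⟩ : R) ^ S.index) := lcm_map S.subtype hL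
  obtain ⟨h5, h6⟩ := residual_num hp hf hq h1 hidx hL'
  apply hcard h5
  rw [hmul, ← h6, mul_comm, S.card_mul_index]

end rows

section cl

variable {F : Type} [Field F] [Fintype F]

/-- **`PΩ⁺_8(q)`, `q ≥ 4`, residual class** -/
theorem four_res (tab : OrderTable.{0}) (hK : Kn) (hq : 4 ≤ Fintype.card F)
    {R : Subgroup (POmega F (quadFormPlus 4 F))} (hR : R ≠ ⊤)
    (h : InOrthogonalResidualClass (pre (quadFormPlus 4 F) R)) :
    PGap (POmega F (quadFormPlus 4 F)) R ∨ ∀ x ∈ R, orderOf x ≠ N0 (Fintype.card F) := by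
  obtain ⟨p, f, hp, hf, hF, hpF⟩ := Cfsg.Agent.H997.PF.exists_pf F
  have hT : IsNamed (.oplus 4 (Fintype.card F)) (POmega F (quadFormPlus 4 F)) := named_oplus (F := F) (by omega)
  have hfin : Finite (POmega F (quadFormPlus 4 F)) := Quotient.finite _
  have hι : Fintype.card (Fin 4 ⊕ Fin 4) = 2 * 4 := by
    rw [Fintype.card_sum, Fintype.card_fin]
  obtain ⟨P, hP, -⟩ := h
  obtain ⟨S, hSn, hSs, hna, hC, ⟨e⟩⟩ := exists_res_plus (by omega) (M := R) hP
  obtain ⟨g, hg⟩ := named_of_simple tab hK hna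
  refine res_kill (p := p) hT trivial ?_ ?_ S hC hg e hι (fun h => Or.inl h) ?_ ?_
  · simp only [surv, List.mem_cons, Grp.oplus.injEq, reduceCtorEq, or_false, false_or, List.not_mem_nil]
    omega
  · intro g' hg'
    simp only [exc, List.mem_cons, Prod.mk.injEq, Grp.oplus.injEq, reduceCtorEq, and_false, or_false, false_or,
      List.not_mem_nil] at hg'
    omega
  · intro hch
    by_cases hfull : Full (POmega F (quadFormPlus 4 F)) R
    · have hT' : IsNamed (.oplus 4 (p ^ f)) (POmega F (quadFormPlus 4 F)) := by rw [← hF]; exact hT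
      have hq' : 4 ≤ p ^ f := by rw [← hF]; exact hq
      obtain ⟨-, h2⟩ := full_oplus' hT' hp hf (by omega) (fun h => by
          obtain ⟨rfl, h⟩ := h
          have : f = 1 := by omega
          subst this
          norm_num at hq') (fun h => by omega) hR hfull S hna hC hg hch
      have h3 : IsNamed (.psp 3 (p ^ f)) S ∨ IsNamed (.oodd 3 (p ^ f)) S := by
        rcases h2 with rfl | rfl
        · exact Or.inl hg
        · exact Or.inr hg
      refine Or.inr ?_
      rw [hF]
      exact miss_eight hp hf hq' S hC h3 fun h8 => Cfsg.Agent.H833.PlusTwo.card_ne' hT' h8 S hC h3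
    · exact Or.inl (pgap_of_not_full hfull)
  · intro s hs hsp hch
    rcases cross_gen hp hT trivial (hasChar_card hp hpF) hι hpF S hSn hSs hna hC hP ⟨e⟩
      hs hsp hg hch with h | h
    · exact Or.inl h
    · simp only [excP, List.mem_cons, Prod.mk.injEq, Grp.oplus.injEq, reduceCtorEq, and_false, or_false,
        false_or, List.not_mem_nil] at h
      omega

/-- **`PΩ⁺_8(q)`, `q ≥ 4`** -/
theorem four_cl (tab : OrderTable.{0}) (hK : Kn) (hq : 4 ≤ Fintype.card F)
    {R : Subgroup (POmega F (quadFormPlus 4 F))} (hR : R ≠ ⊤) :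
    PGap (POmega F (quadFormPlus 4 F)) R ∨ ∀ x ∈ R, orderOf x ≠ N0 (Fintype.card F) := by
  have hgeo : ∀ K : Subgroup (POmega F (⇑(quadPlus 4 F))), PGap (POmega F (⇑(quadPlus 4 F))) K ∨
      InOrthogonalResidualClass (pre (⇑(quadPlus 4 F)) K) ∨ ∀ x ∈ K, orderOf x ≠ N0 (Fintype.card F) := by
    intro M
    rcases plus_miss le_rfl (card_plus 4) (nondeg_iff.2 quadPlus_nondegenerate) (isPlus_quadPlus 4)
      (fun h => by rw [Nat.card_eq_fintype_card] at h; omega) (data_plus le_rfl) M with h | h | ⟨-, v, hv, hMv⟩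
    · exact Or.inl h
    · exact Or.inr (Or.inl h)
    · right
      right
      obtain ⟨r, hr⟩ := exists_pp (q := Nat.card F) (e := 4) Finite.one_lt_card (by omega) (by omega)
      intro x hx ho
      refine not_lcm hq ho (lcm_point (nondeg_iff.2 quadPlus_nondegenerate) (data_plus le_rfl) hr hv hMv hx ?_ ?_
        (card_plus 4))
      · rw [ho]
        exact pp_dvd_N0 Fintype.one_lt_card (by rwa [Nat.card_eq_fintype_card] at hr)
      · rw [ho]
        exact cast_ne_zero dvd_rfl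
  rw [coe_quadPlus] at hgeo
  rcases hgeo R with h | h | h
  · exact Or.inl h
  · exact four_res tab hK hq hR h
  · exact Or.inr h

end cl

end Cfsg.Agent.H320.Der
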