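import Cfsg.Agent.H320.Der.FourC
import Cfsg.Agent.H320.Der.Four

/-!
# `RowS` for `PΩ⁺_8(q)`, `q ≥ 4` (helper320, S3502)
-/

set_option autoImplicit false

namespace Cfsg.Agent.H320.Der

open Cfsg Cfsg.Agent.H439.Der Cfsg.Agent.OrdDiv Cfsg.Agent.H264.GN Cfsg.Agent.H915.GN Cfsg.Agent.H436
open Cfsg.Agent.H278.El.Asm (Kn)

section num

theorem le_gcd_totient_sq (n : ℕ) : n ≤ Nat.gcd 2 n * n.totient ^ 2 := by
  induction n using Nat.recOnPosPrimePosCoprime with
  | prime_pow p k hp hk =>
    obtain ⟨j, rfl⟩ : ∃ j, k = j + 1 := ⟨k - 1, by omega⟩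
    rw [Nat.totient_prime_pow hp (by omega), Nat.add_sub_cancel]
    rcases hp.eq_two_or_odd' with rfl | ho
    · have h1 : Nat.gcd 2 (2 ^ (j + 1)) = 2 := Nat.gcd_eq_left (dvd_pow_self 2 (by omega))
      rw [h1, pow_succ, show (2 - 1 : ℕ) = 1 from rfl, mul_one, mul_comm, pow_two]
      refine Nat.mul_le_mul_left 2 ?_
      exact Nat.le_mul_self _
    · have h1 : Nat.gcd 2 (p ^ (j + 1)) = 1 := by
        rw [← Nat.coprime_iff_gcd_eq_one, Nat.coprime_two_left]
        exact ho.pow
      have hp3 : 3 ≤ p := by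
        have := hp.two_le
        obtain ⟨k, hk⟩ := ho
        omega
      rw [h1, one_mul, pow_succ, mul_pow]
      refine Nat.mul_le_mul ?_ ?_
      · rw [pow_two]
        exact Nat.le_mul_self _
      · obtain ⟨c, rfl⟩ := Nat.exists_eq_add_of_le hp3
        rw [show 3 + c - 1 = c + 2 by omega]
        nlinarith
  | zero => simp
  | one => simp
  | coprime a b ha hb hab iha ihb =>
    rw [Nat.totient_mul hab, hab.gcd_mul, mul_pow]
    calc a * b ≤ (Nat.gcd 2 a * a.totient ^ 2) * (Nat.gcd 2 b * b.totient ^ 2) := Nat.mul_le_mul iha ihb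
      _ = _ := by ring

theorem lt_of_sq_lt {a b : ℕ} (h : a ^ 2 < b ^ 2) : a < b := lt_of_pow_lt_pow_left₀ 2 (Nat.zero_le b) h

theorem lt81 (f : ℕ) (hf : 3 ≤ f) : 8192 * f ^ 2 + 1 < 81 ^ f := by
  induction f, hf using Nat.le_induction with
  | base => norm_num
  | succ n hn ih =>
    have h1 : 8192 * (n + 1) ^ 2 + 1 ≤ 81 * (8192 * n ^ 2 + 1) := by nlinarith
    have h2 : 81 ^ (n + 1) = 81 * 81 ^ n := by ring
    omega

theorem lt16 (f : ℕ) (hf : 4 ≤ f) : 1024 * f ^ 2 + 1 < 16 ^ f := by
  induction f, hf using Nat.le_induction with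
  | base => norm_num
  | succ n hn ih =>
    have h1 : 1024 * (n + 1) ^ 2 + 1 ≤ 16 * (1024 * n ^ 2 + 1) := by nlinarith
    have h2 : 16 ^ (n + 1) = 16 * 16 ^ n := by ring
    omega

theorem totient_255 : Nat.totient 255 = 128 := by
  rw [show 255 = 3 * (5 * 17) from rfl, Nat.totient_mul (by norm_num), Nat.totient_mul (by norm_num),
    Nat.totient_prime (by norm_num), Nat.totient_prime (by norm_num), Nat.totient_prime (by norm_num)]

theorem totient_4095 : Nat.totient 4095 = 1728 := by
  rw [show 4095 = 3 ^ 2 * (5 * (7 * 13)) from rfl, Nat.totient_mul (by norm_num), Nat.totient_mul (by norm_num),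
    Nat.totient_mul (by norm_num), Nat.totient_prime_pow (by norm_num) (by norm_num),
    Nat.totient_prime (by norm_num), Nat.totient_prime (by norm_num), Nat.totient_prime (by norm_num)]
  norm_num

theorem totient_156 : Nat.totient 156 = 48 := by
  rw [show 156 = 2 ^ 2 * (3 * 13) from rfl, Nat.totient_mul (by norm_num), Nat.totient_mul (by norm_num),
    Nat.totient_prime_pow (by norm_num) (by norm_num),
    Nat.totient_prime (by norm_num), Nat.totient_prime (by norm_num)]
  norm_num

theorem totient_600 : Nat.totient 600 = 160 := by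
  rw [show 600 = 2 ^ 3 * (3 * 5 ^ 2) from rfl, Nat.totient_mul (by norm_num), Nat.totient_mul (by norm_num),
    Nat.totient_prime_pow (by norm_num) (by norm_num), Nat.totient_prime_pow (by norm_num) (by norm_num),
    Nat.totient_prime (by norm_num)]
  norm_num

theorem totient_1640 : Nat.totient 1640 = 640 := by
  rw [show 1640 = 2 ^ 3 * (5 * 41) from rfl, Nat.totient_mul (by norm_num), Nat.totient_mul (by norm_num),
    Nat.totient_prime_pow (by norm_num) (by norm_num),
    Nat.totient_prime (by norm_num), Nat.totient_prime (by norm_num)]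
  norm_num

theorem large_M0 {p f : ℕ} (hp : p.Prime) (hf : 1 ≤ f) (hq : 4 ≤ p ^ f) : 32 * f < (M0 (p ^ f)).totient := by
  rcases hp.eq_two_or_odd' with rfl | ho
  · have he : Even (2 ^ f) := even_two.pow_of_ne_zero (by omega)
    rw [M0, if_neg (Nat.not_odd_iff_even.2 he), ← pow_mul]
    rcases Nat.lt_or_ge f 4 with h4 | h4
    · interval_cases f
      · norm_num at hq
      · rw [show 2 ^ (2 * 4) - 1 = 255 from rfl, totient_255]
        norm_num
      · rw [show 2 ^ (3 * 4) - 1 = 4095 from rfl, totient_4095]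
        norm_num
    · have h1 := le_gcd_totient_sq (2 ^ (f * 4) - 1)
      have h2 : Nat.gcd 2 (2 ^ (f * 4) - 1) = 1 := by
        rw [← Nat.coprime_iff_gcd_eq_one, Nat.coprime_two_left]
        exact Nat.Even.sub_odd (Nat.one_le_two_pow) (even_two.pow_of_ne_zero (by omega)) odd_one
      rw [h2, one_mul] at h1
      have h3 := lt16 f h4
      have h4 : 2 ^ (f * 4) = 16 ^ f := by rw [mul_comm, pow_mul]; norm_num
      rw [h4] at h1 ⊢
      refine lt_of_sq_lt (lt_of_lt_of_le ?_ h1)
      rw [mul_pow]
      omega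
  · have ho' : Odd (p ^ f) := ho.pow
    have hp3 : 3 ≤ p := by
      have := hp.two_le
      obtain ⟨k, hk⟩ := ho
      omega
    have key : 8192 * f ^ 2 + 1 < (p ^ f) ^ 4 → 32 * f < (M0 (p ^ f)).totient := by
      intro h
      obtain ⟨c, hc⟩ := eight_dvd ho'
      have hM : M0 (p ^ f) = 2 * c := by
        rw [M0, if_pos ho', hc]
        omega
      have h1 := le_gcd_totient_sq (2 * c)
      have h2 : Nat.gcd 2 (2 * c) = 2 := Nat.gcd_mul_right_right _ _ |>.trans (by simp)
      rw [h2] at h1
      rw [hM]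
      have h3 : c ≤ (2 * c).totient ^ 2 := Nat.le_of_mul_le_mul_left h1 (by norm_num)
      refine lt_of_sq_lt (lt_of_lt_of_le ?_ h3)
      rw [mul_pow]
      omega
    rcases Nat.lt_or_ge f 3 with h3 | h3
    · interval_cases f
      · rw [pow_one] at *
        rcases Nat.lt_or_ge p 11 with h11 | h11
        · have : p = 5 ∨ p = 7 ∨ p = 9 := by
            obtain ⟨k, hk⟩ := ho
            omega
          rcases this with rfl | rfl | rfl
          · rw [show M0 5 = 156 by rw [M0, if_pos (by decide)]; norm_num, totient_156]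
            norm_num
          · rw [show M0 7 = 600 by rw [M0, if_pos (by decide)]; norm_num, totient_600]
            norm_num
          · norm_num at hp
        · apply key
          have := Nat.pow_le_pow_left h11 4
          omega
      · rcases Nat.lt_or_ge p 5 with h5 | h5
        · have : p = 3 := by
            obtain ⟨k, hk⟩ := ho
            omega
          subst this
          rw [show M0 (3 ^ 2) = 1640 by rw [M0, if_pos (by decide)]; norm_num, totient_1640]
          norm_num
        · apply key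
          have h6 := Nat.pow_le_pow_left (Nat.pow_le_pow_left h5 2) 4
          omega
    · apply key
      refine lt_of_lt_of_le (lt81 f h3) ?_
      rw [← pow_mul, mul_comm f 4, pow_mul]
      exact Nat.pow_le_pow_left (Nat.pow_le_pow_left hp3 4) f

end num

section final

variable {F : Type} [Field F] [Fintype F]

/-- **`PΩ⁺_8(q)`, `q ≥ 4`** -/
theorem rowS_oplus_four (tab : OrderTable.{0}) (hK : Kn) (hq : 4 ≤ Nat.card F) :
    RowS (Cfsg.POmega F (Cfsg.quadFormPlus 4 F)) := by
  have hfin : Finite (Cfsg.POmega F (Cfsg.quadFormPlus 4 F)) := Quotient.finite _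
  obtain ⟨p, f, hp, hf, hF, hf'⟩ := exists_pf F
  have hT : Th (Cfsg.POmega F (Cfsg.quadFormPlus 4 F)) (M0 (Nat.card F)) := by
    refine th_elm exists_elm ?_
    rw [hf', hF]
    exact large_M0 hp hf (by rw [← hF]; exact hq)
  refine RowS.of_three fun M hM => ?_
  rcases four_cl tab hK (by rw [← Nat.card_eq_fintype_card]; exact hq) hM.1 with h | h
  · exact Three.of_pgap (ntc_plus_four hq) h
  · rw [← Nat.card_eq_fintype_card] at h
    exact hT.three h

end final

end Cfsg.Agent.H320.Der
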