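import Cfsg.Agent.H320.Der.TypeD

/-!
# `NTC` for the even-dimensional orthogonal groups (helper320, S3502)

* `ntc_plus_five` : `PΩ⁺_{2m}(q)`, `m ≥ 5`
* `ntc_plus_four` : `PΩ⁺_8(q)`, `q ≥ 4`
* `ntc_minus` : `PΩ⁻_{2m}(q)`, except `(m, q) = (4, 2), (5, 2), (4, 3)`

More precisely each prime divisor `v` of `|T|` satisfies `Th T v`.
-/

set_option autoImplicit false
set_option linter.unusedSectionVars false

namespace Cfsg.Agent.H320.Der

open Cfsg.Agent.H439.Der Cfsg.Agent.H377 Cfsg.Agent.H72.AdjOrth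

universe u

section

variable {F : Type u} [Field F] [Fintype F]

theorem eltS_tn {e N : ℕ} (he : 1 ≤ e) (hN : Odd N) (h : N ∣ tn (Nat.card F) e) : EltS F (eta e) (sg e) N := by
  rw [tn] at h
  rw [eta, sg]
  split_ifs at h ⊢ with h1
  · obtain ⟨j, hj⟩ := h1
    exact eltS_minus (by omega) hN h
  · exact eltS_plus he h

/-- `q = p ^ f` and `f` is the number of automorphisms -/
theorem exists_pf (F : Type u) [Field F] [Fintype F] : ∃ p f : ℕ, p.Prime ∧ 1 ≤ f ∧ Nat.card F = p ^ f ∧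
    Nat.card (F ≃+* F) = f := by
  obtain ⟨p, hp⟩ := CharP.exists F
  have hpp : p.Prime := CharP.char_is_prime F p
  have : Fact p.Prime := ⟨hpp⟩
  obtain ⟨n, -, hn⟩ := FiniteField.card F p
  refine ⟨p, n, hpp, n.2, by rw [Nat.card_eq_fintype_card, hn],
    Cfsg.Agent.Lib.FieldAutCard.card_ringAut (p := p) n.2 hn⟩

variable {m i : ℕ} {δ : ℤ} {T : Type*} [Group T]

theorem Gp.wt (G : Gp F m δ i T) {v : ℕ} (hv : v.Prime) (hv2 : v ≠ 2) (hvq : ¬ v ∣ Nat.card F) (hd : v ∣ Nat.card T) :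
    eta (ee (Nat.card F) v) < m ∨ (eta (ee (Nat.card F) v) = m ∧ sg (ee (Nat.card F) v) = δ) :=
  G.cls v hv hv2 hvq hd

theorem th_large (G : Gp F m δ i T) {v : ℕ} (hv : v.Prime) (hv2 : v ≠ 2) (hvq : ¬ v ∣ Nat.card F)
    (hd : v ∣ Nat.card T) {N : ℕ} (hN : Odd N) (hNt : N ∣ tn (Nat.card F) (ee (Nat.card F) v)) (hvN : v ∣ N)
    (h : 2 * i * Nat.card (F ≃+* F) * (2 * eta (ee (Nat.card F) v) + 1) < N) : Th T v := by
  have he : 1 ≤ ee (Nat.card F) v := ee_pos hv hvq
  exact G.three (eta_pos he) (G.wt hv hv2 hvq hd) (sg_pm _).symm.symm hN (eltS_tn he hN hNt) hv hvN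
    (count_of (eta_pos he) (two_eta_lt hv hv2 hvq) h)

theorem ee_unique {q v k : ℕ} (h : eta (ee q v) = k) (_ : 1 ≤ k) :
    (Even (ee q v) ∧ ee q v = 2 * k) ∨ (Odd (ee q v) ∧ ee q v = k) := by
  rw [eta] at h
  split_ifs at h with h1
  · left
    refine ⟨h1, ?_⟩
    obtain ⟨j, hj⟩ := h1
    omega
  · exact Or.inr ⟨Nat.not_even_iff_odd.1 h1, h⟩

/-- index one -/
theorem th_one (G : Gp F m δ 1 T) (hex : ¬ (m = 4 ∧ δ = 1 ∧ Nat.card F = 3)) {v : ℕ} (hv : v.Prime)
    (hd : v ∣ Nat.card T)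
    (h1 : ¬ (Nat.card F = 2 ∧ v ≠ 2 ∧ m ≤ eta (ee (Nat.card F) v) + 1 ∧ eta (ee (Nat.card F) v) ≤ 4))
    (h2 : ¬ (Nat.card F = 3 ∧ v ≠ 2 ∧ v ≠ 3 ∧ m ≤ eta (ee (Nat.card F) v) + 1 ∧ eta (ee (Nat.card F) v) = 3)) :
    Th T v := by
  by_cases hw : v ≠ 2 → ¬ v ∣ Nat.card F → eta (ee (Nat.card F) v) + 2 ≤ m
  · exact th_wO G hv hd hw hex
  push Not at hw
  obtain ⟨hv2, hvq, hlt⟩ := hw
  have hm := G.four
  obtain ⟨p, f, hp, hf, hq, hf'⟩ := exists_pf F
  obtain ⟨N, hN, hNt, hvN, h⟩ := exists_N1 hp hf hq hv hvq (by omega) (fun h => h1 ⟨h.1, hv2, by omega, h.2⟩)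
    (fun h => h2 ⟨h.1, hv2, fun h3 => hvq (by rw [h3, h.1]), by omega, h.2⟩)
  exact th_large G hv hv2 hvq hd hN hNt hvN (by rwa [hf'])

theorem ee_eq_dvd {q v e : ℕ} (hq : 1 ≤ q) (h : ee q v = e) : v ∣ q ^ e - 1 := h ▸ dvd_pow_ee hq

theorem odd_prime_17 {v : ℕ} (hv : v.Prime) (h : v ∣ 2 ^ 8 - 1) (he : ee 2 v = 8) : v = 17 := by
  have h1 : v ∣ 3 * 5 * 17 := h
  rcases (Nat.Prime.dvd_mul hv).1 h1 with h2 | h2
  · exfalso
    have h3 : ee 2 v ∣ 4 := ee_dvd (by norm_num) (h2.trans (by norm_num))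
    rw [he] at h3
    exact absurd h3 (by decide)
  · exact (Nat.prime_dvd_prime_iff_eq hv (by norm_num)).1 h2

/-- **`PΩ⁺_{2m}(q)`, `m ≥ 5`** -/
theorem th_plus_five (G : Gp F m 1 1 T) (hm : 5 ≤ m) {v : ℕ} (hv : v.Prime) (hd : v ∣ Nat.card T) : Th T v := by
  have := G.fin
  by_cases h1 : Nat.card F = 2 ∧ v ≠ 2 ∧ m ≤ eta (ee (Nat.card F) v) + 1 ∧ eta (ee (Nat.card F) v) ≤ 4
  · obtain ⟨hq, hv2, h3, h4⟩ := h1
    have hη : eta (ee (Nat.card F) v) = 4 := by omega
    have hm5 : m = 5 := by omega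
    subst hm5
    rw [hq] at hη h3 h4
    have hv17 : v = 17 := by
      rcases ee_unique hη (by norm_num) with ⟨-, h⟩ | ⟨ho, h⟩
      · exact odd_prime_17 hv (ee_eq_dvd (by norm_num) h) h
      · rw [h] at ho
        exact absurd ho (by decide)
    subst hv17
    obtain ⟨p, f, hp, hf, hq', hf'⟩ := exists_pf F
    have hf1 : f = 1 := by
      rw [hq] at hq'
      by_contra hne
      have h5 : 2 ^ 2 ≤ p ^ f := (Nat.pow_le_pow_left hp.two_le 2).trans (Nat.pow_le_pow_right hp.pos (by omega))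
      omega
    have hE : EltS F 4 (-1) 17 := eltS_minus (by norm_num) (by decide) (by rw [hq]; norm_num)
    have h6 : Tw T 17 := G.two (k := 4) (ε := -1) (by norm_num) (Or.inl (by norm_num)) (Or.inr rfl) (by decide)
      (by norm_num) hE (by
        rw [hf', hf1, Nat.totient_prime (by norm_num)]
        norm_num)
    have h7 : Elt F 1 (-1) 3 := elt_tor_minus le_rfl (by rw [hq]; norm_num)
    have h8 := hE.elt.prod h7
    exact Th.of_two (a := 17) (b := 51) dvd_rfl ⟨3, rfl⟩ (by norm_num) h6 (G.of_odd (by decide) h8)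
  · exact th_one G (by omega) hv hd h1 (by omega)

theorem ntc_of_th {T : Type*} [Group T] (h : ∀ v : ℕ, v.Prime → v ∣ Nat.card T → Th T v) : NTC T :=
  fun v hv hd => (h v hv hd).not_SCC

theorem ntc_plus_five (hm : 5 ≤ m) : NTC (Cfsg.POmega F (Cfsg.quadFormPlus m F)) :=
  ntc_of_th fun _ => th_plus_five (gp_plus_five hm) hm

/-- **`PΩ⁻_{2m}(q)`** -/
theorem th_minus (G : Gp F m (-1) 1 T) (h42 : ¬ (m = 4 ∧ Nat.card F = 2)) (h52 : ¬ (m = 5 ∧ Nat.card F = 2))
    (h43 : ¬ (m = 4 ∧ Nat.card F = 3)) {v : ℕ} (hv : v.Prime) (hd : v ∣ Nat.card T) : Th T v := by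
  have hm := G.four
  exact th_one G (by omega) hv hd (by omega) (by omega)

theorem ntc_minus (hm : 4 ≤ m) {a b : F}
    (hab : ∀ z₁ z₂ : F, z₁ ^ 2 + a * z₁ * z₂ + b * z₂ ^ 2 = 0 → z₁ = 0 ∧ z₂ = 0)
    (h42 : ¬ (m = 4 ∧ Nat.card F = 2)) (h52 : ¬ (m = 5 ∧ Nat.card F = 2)) (h43 : ¬ (m = 4 ∧ Nat.card F = 3)) :
    NTC (Cfsg.POmega F (Cfsg.quadFormMinus (m - 1) F a b)) :=
  ntc_of_th fun _ => th_minus (gp_minus_all hm hab) h42 h52 h43

theorem mem_of_dvd_prod {v a b : ℕ} (hv : v.Prime) (h : v ∣ a * b) : v ∣ a ∨ v ∣ b := (Nat.Prime.dvd_mul hv).1 h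

/-- **`PΩ⁺_8(q)`, `q ≥ 4`** -/
theorem th_plus_four (G : Gp F 4 1 3 T) (hq4 : 4 ≤ Nat.card F) {v : ℕ} (hv : v.Prime) (hd : v ∣ Nat.card T) :
    Th T v := by
  have := G.fin
  by_cases hw : v ≠ 2 → ¬ v ∣ Nat.card F → eta (ee (Nat.card F) v) + 2 ≤ 4
  · exact th_wO G hv hd hw (by omega)
  push Not at hw
  obtain ⟨hv2, hvq, hlt⟩ := hw
  have : Fact v.Prime := ⟨hv⟩
  have hη : eta (ee (Nat.card F) v) = 3 := by
    rcases G.wt hv hv2 hvq hd with h | ⟨h, h'⟩
    · omega
    · exfalso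
      rcases ee_unique h (by norm_num) with ⟨he, -⟩ | ⟨ho, h3⟩
      · rw [sg, if_pos he] at h'
        norm_num at h'
      · rw [h3] at ho
        exact absurd ho (by decide)
  obtain ⟨p, f, hp, hf, hq, hf'⟩ := exists_pf F
  by_cases h7 : 7 ≤ Nat.card F ∧ ¬ (Nat.card F = 9 ∧ Even (ee (Nat.card F) v))
  · obtain ⟨N, hN, hNt, hvN, h⟩ := exists_N3 hp hf hq hv hvq hη h7.1 h7.2
    exact th_large G hv hv2 hvq hd hN hNt hvN (by rwa [hf'])
  have hval : Nat.card F = 4 ∨ Nat.card F = 5 ∨ (Nat.card F = 9 ∧ Even (ee (Nat.card F) v)) := by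
    by_cases h9 : Nat.card F = 9 ∧ Even (ee (Nat.card F) v)
    · exact Or.inr (Or.inr h9)
    · have h8 : Nat.card F < 7 := by
        by_contra hge
        exact h7 ⟨by omega, h9⟩
      have h6 : Nat.card F ≠ 6 := by
        intro h6
        rw [h6] at hq
        have h2 : 2 ∣ p ^ f := hq ▸ (by norm_num : 2 ∣ 6)
        have h3 : 3 ∣ p ^ f := hq ▸ (by norm_num : 3 ∣ 6)
        have h2' := (Nat.prime_dvd_prime_iff_eq Nat.prime_two hp).1 (Nat.prime_two.dvd_of_dvd_pow h2)
        have h3' := (Nat.prime_dvd_prime_iff_eq Nat.prime_three hp).1 (Nat.prime_three.dvd_of_dvd_pow h3)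
        omega
      omega
  have hfb : ∀ c, Nat.card F < 2 ^ (c + 1) → f ≤ c := by
    intro c hc
    by_contra hlt
    have h5 : 2 ^ (c + 1) ≤ p ^ f := (Nat.pow_le_pow_left hp.two_le _).trans (Nat.pow_le_pow_right hp.pos (by omega))
    omega
  rcases hval with h | h | ⟨h, he9⟩
  · -- `q = 4`
    have hf2 : f ≤ 2 := hfb 2 (by rw [h]; norm_num)
    rcases ee_unique hη (by norm_num) with ⟨-, he⟩ | ⟨-, he⟩
    · have hv13 : v = 13 := by
        rw [h] at he
        have h1 : v ∣ 4 ^ 6 - 1 := ee_eq_dvd (by norm_num) he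
        have h2 : v ∣ 315 * 13 := h1
        rcases mem_of_dvd_prod hv h2 with h3 | h3
        · exfalso
          have h4 : v ∣ 15 * 63 := h3.trans (by norm_num)
          rcases mem_of_dvd_prod hv h4 with h5 | h5
          · have h6 : ee 4 v ∣ 2 := ee_dvd (by norm_num) h5
            rw [he] at h6
            exact absurd h6 (by decide)
          · have h6 : ee 4 v ∣ 3 := ee_dvd (by norm_num) h5
            rw [he] at h6
            exact absurd h6 (by decide)
        · exact (Nat.prime_dvd_prime_iff_eq hv (by norm_num)).1 h3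
      subst hv13
      have hE : EltS F 3 (-1) 65 := eltS_minus (by norm_num) (by decide) (by rw [h]; norm_num)
      have h6 : Tw T 65 := G.two (k := 3) (ε := -1) (by norm_num) (Or.inl (by norm_num)) (Or.inr rfl) (by decide)
        (by norm_num) hE (by
          rw [hf', show (65 : ℕ).totient = 48 by decide]
          omega)
      exact Th.of_two (a := 65) (b := 13) ⟨5, rfl⟩ dvd_rfl (by norm_num) h6 (exists_prime_orderOf_dvd_card' 13 hd)
    · have hv7 : v = 7 := by
        rw [h] at he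
        have h1 : v ∣ 4 ^ 3 - 1 := ee_eq_dvd (by norm_num) he
        have h2 : v ∣ 9 * 7 := h1
        rcases mem_of_dvd_prod hv h2 with h3 | h3
        · exfalso
          have h4 : v ∣ 3 := hv.dvd_of_dvd_pow (show v ∣ 3 ^ 2 from h3)
          have h6 : ee 4 v ∣ 1 := ee_dvd (by norm_num) (by simpa using h4)
          rw [he] at h6
          exact absurd h6 (by decide)
        · exact (Nat.prime_dvd_prime_iff_eq hv (by norm_num)).1 h3
      subst hv7
      have hE : ∀ N, N ∣ 63 → Elt F 4 1 N := fun N hN => by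
        have h1 := (elt_tor_plus (F := F) (k := 3) (N := N) (by norm_num) (by rw [h]; exact hN)).add le_rfl
          (ε' := 1) (Or.inl rfl)
        simpa using h1
      exact Th.of_orders (a := 7) (b := 21) (c := 63) dvd_rfl ⟨3, rfl⟩ ⟨9, rfl⟩ (by norm_num) (by norm_num)
        (by norm_num) (exists_prime_orderOf_dvd_card' 7 hd) (G.of_odd (by decide) (hE 21 (by norm_num)))
        (G.of_odd (by decide) (hE 63 dvd_rfl))
  · -- `q = 5`
    have hf1 : f ≤ 2 := hfb 2 (by rw [h]; norm_num)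
    have hf1 : f ≤ 1 := by
      by_contra hlt
      have hf2 : f = 2 := by omega
      rw [hf2, h] at hq
      have h5 := (Nat.prime_dvd_prime_iff_eq hp Nat.prime_five).1 (hq ▸ dvd_pow_self p two_ne_zero)
      rw [h5] at hq
      omega
    rcases ee_unique hη (by norm_num) with ⟨-, he⟩ | ⟨-, he⟩
    · have hv7 : v = 7 := by
        rw [h] at he
        have h1 : v ∣ 5 ^ 6 - 1 := ee_eq_dvd (by norm_num) he
        have h2 : v ∣ (124 * 18) * 7 := h1
        rcases mem_of_dvd_prod hv h2 with h3 | h3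
        · exfalso
          rcases mem_of_dvd_prod hv h3 with h5 | h5
          · have h6 : ee 5 v ∣ 3 := ee_dvd (by norm_num) h5
            rw [he] at h6
            exact absurd h6 (by decide)
          · have h7' : v ∣ 2 * 3 ^ 2 := h5
            have h6 : ee 5 v ∣ 2 := by
              refine ee_dvd (by norm_num) ?_
              rcases mem_of_dvd_prod hv h7' with h8 | h8
              · exact h8.trans (by norm_num)
              · exact (hv.dvd_of_dvd_pow h8).trans (by norm_num)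
            rw [he] at h6
            exact absurd h6 (by decide)
        · exact (Nat.prime_dvd_prime_iff_eq hv (by norm_num)).1 h3
      subst hv7
      refine G.three (k := 3) (N := 63) (ε := -1) (by norm_num) (Or.inl (by norm_num)) (Or.inr rfl) (by decide)
        (eltS_minus (by norm_num) (by decide) (by rw [h]; norm_num)) hv (by norm_num) ?_
      rw [hf']
      omega
    · have hv31 : v = 31 := by
        rw [h] at he
        have h1 : v ∣ 5 ^ 3 - 1 := ee_eq_dvd (by norm_num) he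
        have h2 : v ∣ 4 * 31 := h1
        rcases mem_of_dvd_prod hv h2 with h3 | h3
        · exfalso
          have h6 : ee 5 v ∣ 1 := ee_dvd (by norm_num) (by simpa using h3)
          rw [he] at h6
          exact absurd h6 (by decide)
        · exact (Nat.prime_dvd_prime_iff_eq hv (by norm_num)).1 h3
      subst hv31
      have hE : EltS F 3 1 31 := eltS_plus (by norm_num) (by rw [h]; norm_num)
      have h6 : Tw T 31 := G.two (k := 3) (ε := 1) (by norm_num) (Or.inl (by norm_num)) (Or.inl rfl) (by decide)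
        (by norm_num) hE (by
          rw [hf', Nat.totient_prime (by norm_num)]
          omega)
      have h7' : Elt F 3 1 124 := elt_tor_plus (by norm_num) (by rw [h]; norm_num)
      have h8 := Elt.add_two (n₂ := 1) (ε₂ := 1) le_rfl (Or.inl rfl) h7' (by decide)
      exact Th.of_two (a := 31) (b := 62) dvd_rfl ⟨2, rfl⟩ (by norm_num) h6 (G.elt2 62 h8)
  · -- `q = 9`
    have hf3 : f ≤ 3 := hfb 3 (by rw [h]; norm_num)
    have hf2 : f ≤ 2 := by
      by_contra hlt
      have hf2 : f = 3 := by omega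
      rw [hf2, h] at hq
      have h5 : p ∣ 3 ^ 2 := by
        rw [show 3 ^ 2 = 9 by norm_num, hq]
        exact dvd_pow_self p (by norm_num)
      have h6 := (Nat.prime_dvd_prime_iff_eq hp Nat.prime_three).1 (hp.dvd_of_dvd_pow h5)
      rw [h6] at hq
      omega
    rcases ee_unique hη (by norm_num) with ⟨-, he⟩ | ⟨ho, -⟩
    · have hv73 : v = 73 := by
        rw [h] at he
        have h1 : v ∣ 9 ^ 6 - 1 := ee_eq_dvd (by norm_num) he
        have h2 : v ∣ (728 * 10) * 73 := h1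
        rcases mem_of_dvd_prod hv h2 with h3 | h3
        · exfalso
          rcases mem_of_dvd_prod hv h3 with h5 | h5
          · have h6 : ee 9 v ∣ 3 := ee_dvd (by norm_num) h5
            rw [he] at h6
            exact absurd h6 (by decide)
          · have h6 : ee 9 v ∣ 2 := ee_dvd (by norm_num) (h5.trans (by norm_num))
            rw [he] at h6
            exact absurd h6 (by decide)
        · exact (Nat.prime_dvd_prime_iff_eq hv (by norm_num)).1 h3
      subst hv73
      refine G.three (k := 3) (N := 365) (ε := -1) (by norm_num) (Or.inl (by norm_num)) (Or.inr rfl) (by decide)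
        (eltS_minus (by norm_num) (by decide) (by rw [h]; norm_num)) hv (by norm_num) ?_
      rw [hf']
      omega
    · exact absurd he9 (Nat.not_even_iff_odd.2 ho)

theorem ntc_plus_four (hq4 : 4 ≤ Nat.card F) : NTC (Cfsg.POmega F (Cfsg.quadFormPlus 4 F)) :=
  ntc_of_th fun _ => th_plus_four gp_plus_four hq4

end

end Cfsg.Agent.H320.Der
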