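import Cfsg.Agent.H439.Der.Three

/-!
# Counting `Aut T`-classes (helper320, S3502)

`A ≤ Aut T` of index `i`, `S ⊆ T` such that every `A`-orbit meets `S` in at most `b` elements:
* `orb_le` : every `Aut T`-orbit meets `S` in at most `i b` elements;
* `exists_two`, `exists_three` : if `i b < |S|` (`2 i b < |S|`) there are two (three) elements of `S` which are
  pairwise not `Aut T`-conjugate.
-/

set_option autoImplicit false

namespace Cfsg.Agent.H320.Der

open Subgroup Cfsg.Agent.H439.Der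

variable {T : Type*} [Group T]

/-- every `A`-orbit of an element of `S` meets `S` in at most `b` elements -/
def Orb (A : Subgroup (MulAut T)) (S : Set T) (b : ℕ) : Prop :=
  ∀ x ∈ S, Nat.card {y // y ∈ S ∧ ∃ α ∈ A, α x = y} ≤ b

theorem orb_le [Finite T] {A : Subgroup (MulAut T)} {S : Set T} {b : ℕ} (h : Orb A S b) (x : T) :
    Nat.card {y // y ∈ S ∧ ∃ φ : MulAut T, φ x = y} ≤ A.index * b := by
  classical
  have : Finite (MulAut T) := Finite.of_injective (fun f : MulAut T => (f : T → T)) DFunLike.coe_injective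
  have := Fintype.ofFinite T
  have := Fintype.ofFinite (MulAut T ⧸ A)
  let P : Finset T := Finset.univ.filter fun y => y ∈ S ∧ ∃ φ : MulAut T, φ x = y
  have hP : Nat.card {y // y ∈ S ∧ ∃ φ : MulAut T, φ x = y} = P.card := by
    rw [Nat.card_eq_fintype_card, Fintype.card_subtype]
  have hφ : ∀ y : T, ∃ φ : MulAut T, y ∈ P → φ x = y := by
    intro y
    by_cases hy : y ∈ P
    · obtain ⟨φ, hφ⟩ := (Finset.mem_filter.1 hy).2.2
      exact ⟨φ, fun _ => hφ⟩
    · exact ⟨1, fun h => absurd h hy⟩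
  choose φ hφ using hφ
  rw [hP, mul_comm, Subgroup.index, Nat.card_eq_fintype_card]
  refine Finset.card_le_mul_card_image_of_maps_to (f := fun y => (QuotientGroup.mk (φ y)⁻¹ : MulAut T ⧸ A))
    (t := Finset.univ) (fun _ _ => Finset.mem_univ _) _ ?_
  intro c _
  rcases Finset.eq_empty_or_nonempty (P.filter fun y => (QuotientGroup.mk (φ y)⁻¹ : MulAut T ⧸ A) = c) with h0 | ⟨y0, hy0⟩
  · rw [h0]; exact Nat.zero_le _
  rw [Finset.mem_filter] at hy0
  refine le_trans ?_ (h y0 (Finset.mem_filter.1 hy0.1).2.1)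
  rw [Nat.card_eq_fintype_card, Fintype.card_subtype]
  refine Finset.card_le_card fun y hy => ?_
  rw [Finset.mem_filter] at hy
  rw [Finset.mem_filter]
  refine ⟨Finset.mem_univ _, (Finset.mem_filter.1 hy.1).2.1, φ y * (φ y0)⁻¹, ?_, ?_⟩
  · have h1 : (QuotientGroup.mk (φ y)⁻¹ : MulAut T ⧸ A) = QuotientGroup.mk (φ y0)⁻¹ := by rw [hy.2, hy0.2]
    rw [QuotientGroup.eq, inv_inv] at h1
    exact h1
  · have h1 : (φ y0)⁻¹ y0 = x := by
      have h2 := MulAut.inv_apply_self T (φ y0) x
      rwa [hφ y0 hy0.1] at h2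
    rw [MulAut.mul_apply, h1, hφ y hy.1]

theorem exists_two [Finite T] {A : Subgroup (MulAut T)} {S : Set T} {b : ℕ} (h : Orb A S b)
    (hS : A.index * b < Nat.card S) : ∃ x y : T, x ∈ S ∧ y ∈ S ∧ ∀ φ : T ≃* T, φ x ≠ y := by
  by_contra hcon
  push Not at hcon
  have hne : Nonempty S := by
    by_contra hn
    rw [not_nonempty_iff] at hn
    rw [Nat.card_of_isEmpty] at hS
    omega
  obtain ⟨x, hx⟩ := hne
  have h1 := orb_le h x
  have h2 : Nat.card S ≤ Nat.card {y // y ∈ S ∧ ∃ φ : MulAut T, φ x = y} := by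
    refine Nat.card_le_card_of_injective (fun y : S => (⟨y.1, y.2, hcon x y.1 hx y.2⟩ :
      {y // y ∈ S ∧ ∃ φ : MulAut T, φ x = y})) fun a b hab => ?_
    exact Subtype.ext (Subtype.mk.inj hab)
  omega

theorem exists_three [Finite T] {A : Subgroup (MulAut T)} {S : Set T} {b : ℕ} (h : Orb A S b)
    (hS : 2 * (A.index * b) < Nat.card S) : ∃ x y z : T, x ∈ S ∧ y ∈ S ∧ z ∈ S ∧ (∀ φ : T ≃* T, φ x ≠ y) ∧
      (∀ φ : T ≃* T, φ x ≠ z) ∧ ∀ φ : T ≃* T, φ y ≠ z := by
  classical
  obtain ⟨x, y, hx, hy, hxy⟩ := exists_two h (by omega)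
  by_contra hcon
  push Not at hcon
  have h1 := orb_le h x
  have h2 := orb_le h y
  have h3 : Nat.card S ≤ Nat.card {z // z ∈ S ∧ ∃ φ : MulAut T, φ x = z} + Nat.card {z // z ∈ S ∧ ∃ φ : MulAut T, φ y = z} := by
    have key : ∀ z : S, (∃ φ : MulAut T, φ x = z) ∨ ∃ φ : MulAut T, φ y = z := by
      intro z
      by_cases hz : ∃ φ : MulAut T, φ x = z
      · exact Or.inl hz
      · right
        push Not at hz
        exact hcon x y z hx hy z.2 hxy hz
    rw [← Nat.card_sum]
    refine Nat.card_le_card_of_injective (fun z : S =>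
      if hz : ∃ φ : MulAut T, φ x = z then Sum.inl ⟨z.1, z.2, hz⟩ else Sum.inr ⟨z.1, z.2, (key z).resolve_left hz⟩)
      fun a b hab => ?_
    by_cases ha : ∃ φ : MulAut T, φ x = a <;> by_cases hb : ∃ φ : MulAut T, φ x = b
    · simp only [dif_pos ha, dif_pos hb, Sum.inl.injEq, Subtype.mk.injEq] at hab
      exact Subtype.ext hab
    · simp only [dif_pos ha, dif_neg hb, reduceCtorEq] at hab
    · simp only [dif_neg ha, dif_pos hb, reduceCtorEq] at hab
    · simp only [dif_neg ha, dif_neg hb, Sum.inr.injEq, Subtype.mk.injEq] at hab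
      exact Subtype.ext hab
  omega

/-- elements of a cyclic group of order `N` whose order is divisible by `v` -/
theorem card_sing [Finite T] {x : T} {v N : ℕ} (hv : v.Prime) (hx : orderOf x = N) (hd : v ∣ N) :
    N - N / v ≤ Nat.card {y // y ∈ zpowers x ∧ v ∣ orderOf y} := by
  classical
  have := Fintype.ofFinite T
  obtain ⟨M, rfl⟩ := hd
  have hN : 0 < v * M := hx ▸ orderOf_pos x
  have hM : 0 < M := Nat.pos_of_mul_pos_left hN
  rw [Nat.mul_div_cancel_left _ hv.pos]
  have h1 : Nat.card (zpowers x) = v * M := by rw [Nat.card_zpowers, hx]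
  have h2 : Nat.card (zpowers x) ≤ Nat.card {y // y ∈ zpowers x ∧ v ∣ orderOf y} + Nat.card {y : zpowers x // y ^ M = 1} := by
    rw [← Nat.card_sum]
    refine Nat.card_le_card_of_injective (fun y : zpowers x =>
      if hy : v ∣ orderOf (y : T) then Sum.inl ⟨y.1, y.2, hy⟩ else Sum.inr ⟨y, ?_⟩) fun a b hab => ?_
    · have h3 : orderOf (y : T) ∣ v * M := by rw [← hx]; exact orderOf_dvd_of_mem_zpowers y.2
      have h4 : orderOf (y : T) ∣ M := (Nat.Coprime.symm ((Nat.Prime.coprime_iff_not_dvd hv).2 hy)).dvd_of_dvd_mul_left h3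
      apply Subtype.ext
      exact orderOf_dvd_iff_pow_eq_one.1 h4
    · by_cases ha : v ∣ orderOf (a : T) <;> by_cases hb : v ∣ orderOf (b : T)
      · simp only [dif_pos ha, dif_pos hb, Sum.inl.injEq, Subtype.mk.injEq] at hab
        exact Subtype.ext hab
      · simp only [dif_pos ha, dif_neg hb, reduceCtorEq] at hab
      · simp only [dif_neg ha, dif_pos hb, reduceCtorEq] at hab
      · simp only [dif_neg ha, dif_neg hb, Sum.inr.injEq, Subtype.mk.injEq] at hab
        exact hab
  have h3 : Nat.card {y : zpowers x // y ^ M = 1} ≤ M := by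
    rw [Nat.card_eq_fintype_card, Fintype.card_subtype]
    exact IsCyclic.card_pow_eq_one_le hM
  omega

end Cfsg.Agent.H320.Der
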