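import Cfsg.Agent.H320.Der.Ntc

/-!
# Counting `Aut T`-classes when a coset of `A` does not contribute; elements of even order (helper320, S3502)
-/

set_option autoImplicit false
set_option linter.unusedSectionVars false

namespace Cfsg.Agent.H320.Der

open Module Subgroup QuadraticMap Cfsg.Agent.H439.Der
open Cfsg.Agent.LieClassical.OrthCore Cfsg.Agent.LieClassical.OrthTrans Cfsg.Agent.AutOrth.SemiSim
  Cfsg.Agent.AutOrth.Gen Cfsg.Agent.ClassicalGeometry.OrthAut1 Cfsg.Agent.AutOrth.Main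

section grp

variable {T : Type*} [Group T]

/-- no automorphism in the coset `g₀ A` moves an element of `S` back into `S` -/
def Ex (A : Subgroup (MulAut T)) (S : Set T) (g₀ : MulAut T) : Prop :=
  ∀ x ∈ S, ∀ φ : MulAut T, φ x ∈ S → ∀ a ∈ A, φ⁻¹ ≠ g₀ * a

theorem orb_le_ex [Finite T] {A : Subgroup (MulAut T)} {S : Set T} {b : ℕ} (h : Orb A S b) {g₀ : MulAut T}
    (hE : Ex A S g₀) {x : T} (hx : x ∈ S) :
    Nat.card {y // y ∈ S ∧ ∃ φ : MulAut T, φ x = y} ≤ (A.index - 1) * b := by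
  classical
  have : Finite (MulAut T) := Finite.of_injective (fun f : MulAut T => (f : T → T)) DFunLike.coe_injective
  have := Fintype.ofFinite T
  have := Fintype.ofFinite (MulAut T ⧸ A)
  let P : Finset T := Finset.univ.filter fun y => y ∈ S ∧ ∃ φ : MulAut T, φ x = y
  have hP : Nat.card {y // y ∈ S ∧ ∃ φ : MulAut T, φ x = y} = P.card := by
    rw [Nat.card_eq_fintype_card, Fintype.card_subtype]
  have hφ : ∀ y : T, ∃ φ : MulAut T, y ∈ P → φ x = y := by
    intro y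
    by_cases hy : y ∈ P
    · obtain ⟨φ, hφ⟩ := (Finset.mem_filter.1 hy).2.2
      exact ⟨φ, fun _ => hφ⟩
    · exact ⟨1, fun h => absurd h hy⟩
  choose φ hφ using hφ
  have hc : (Finset.univ.erase (QuotientGroup.mk g₀ : MulAut T ⧸ A)).card = A.index - 1 := by
    rw [Finset.card_erase_of_mem (Finset.mem_univ _), Finset.card_univ, Subgroup.index, Nat.card_eq_fintype_card]
  rw [hP, mul_comm, ← hc]
  refine Finset.card_le_mul_card_image_of_maps_to (f := fun y => (QuotientGroup.mk (φ y)⁻¹ : MulAut T ⧸ A))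
    (fun y hy => ?_) _ ?_
  · rw [Finset.mem_erase]
    refine ⟨fun h1 => ?_, Finset.mem_univ _⟩
    rw [QuotientGroup.eq, inv_inv] at h1
    refine hE x hx (φ y) (by rw [hφ y hy]; exact (Finset.mem_filter.1 hy).2.1) (φ y * g₀)⁻¹ (A.inv_mem h1) ?_
    group
  · intro c _
    rcases Finset.eq_empty_or_nonempty (P.filter fun y => (QuotientGroup.mk (φ y)⁻¹ : MulAut T ⧸ A) = c) with h0 | ⟨y0, hy0⟩
    · rw [h0]; exact Nat.zero_le _
    rw [Finset.mem_filter] at hy0
    refine le_trans ?_ (h y0 (Finset.mem_filter.1 hy0.1).2.1)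
    rw [Nat.card_eq_fintype_card, Fintype.card_subtype]
    refine Finset.card_le_card fun y hy => ?_
    rw [Finset.mem_filter] at hy
    rw [Finset.mem_filter]
    refine ⟨Finset.mem_univ _, (Finset.mem_filter.1 hy.1).2.1, φ y * (φ y0)⁻¹, ?_, ?_⟩
    · have h1 : (QuotientGroup.mk (φ y)⁻¹ : MulAut T ⧸ A) = QuotientGroup.mk (φ y0)⁻¹ := by rw [hy.2, hy0.2]
      rw [QuotientGroup.eq, inv_inv] at h1
      exact h1
    · have h1 : (φ y0)⁻¹ y0 = x := by
        have h2 := MulAut.inv_apply_self T (φ y0) x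
        rwa [hφ y0 hy0.1] at h2
      rw [MulAut.mul_apply, h1, hφ y hy.1]

theorem exists_two_ex [Finite T] {A : Subgroup (MulAut T)} {S : Set T} {b : ℕ} (h : Orb A S b) {g₀ : MulAut T}
    (hE : Ex A S g₀) (hS : (A.index - 1) * b < Nat.card S) : ∃ x y : T, x ∈ S ∧ y ∈ S ∧ ∀ φ : T ≃* T, φ x ≠ y := by
  by_contra hcon
  push Not at hcon
  have hne : Nonempty S := by
    by_contra hn
    rw [not_nonempty_iff] at hn
    rw [Nat.card_of_isEmpty] at hS
    omega
  obtain ⟨x, hx⟩ := hne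
  have h1 := orb_le_ex h hE hx
  have h2 : Nat.card S ≤ Nat.card {y // y ∈ S ∧ ∃ φ : MulAut T, φ x = y} := by
    refine Nat.card_le_card_of_injective (fun y : S => (⟨y.1, y.2, hcon x y.1 hx y.2⟩ :
      {y // y ∈ S ∧ ∃ φ : MulAut T, φ x = y})) fun a b hab => ?_
    exact Subtype.ext (Subtype.mk.inj hab)
  omega

theorem exists_three_ex [Finite T] {A : Subgroup (MulAut T)} {S : Set T} {b : ℕ} (h : Orb A S b) {g₀ : MulAut T}
    (hE : Ex A S g₀)
    (hS : 2 * ((A.index - 1) * b) < Nat.card S) : ∃ x y z : T, x ∈ S ∧ y ∈ S ∧ z ∈ S ∧ (∀ φ : T ≃* T, φ x ≠ y) ∧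
      (∀ φ : T ≃* T, φ x ≠ z) ∧ ∀ φ : T ≃* T, φ y ≠ z := by
  classical
  obtain ⟨x, y, hx, hy, hxy⟩ := exists_two_ex h hE (by omega)
  by_contra hcon
  push Not at hcon
  have h1 := orb_le_ex h hE hx
  have h2 := orb_le_ex h hE hy
  have h3 : Nat.card S ≤ Nat.card {z // z ∈ S ∧ ∃ φ : MulAut T, φ x = z} + Nat.card {z // z ∈ S ∧ ∃ φ : MulAut T, φ y = z} := by
    have key : ∀ z : S, (∃ φ : MulAut T, φ x = z) ∨ ∃ φ : MulAut T, φ y = z := by
      intro z
      by_cases hz : ∃ φ : MulAut T, φ x = z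
      · exact Or.inl hz
      · right
        push Not at hz
        exact hcon x y z hx hy z.2 hxy hz
    rw [← Nat.card_sum]
    refine Nat.card_le_card_of_injective (fun z : S =>
      if hz : ∃ φ : MulAut T, φ x = z then Sum.inl ⟨z.1, z.2, hz⟩ else Sum.inr ⟨z.1, z.2, (key z).resolve_left hz⟩)
      fun a b hab => ?_
    by_cases ha : ∃ φ : MulAut T, φ x = a <;> by_cases hb : ∃ φ : MulAut T, φ x = b
    · simp only [dif_pos ha, dif_pos hb, Sum.inl.injEq, Subtype.mk.injEq] at hab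
      exact Subtype.ext hab
    · simp only [dif_pos ha, dif_neg hb, reduceCtorEq] at hab
    · simp only [dif_neg ha, dif_pos hb, reduceCtorEq] at hab
    · simp only [dif_neg ha, dif_neg hb, Sum.inr.injEq, Subtype.mk.injEq] at hab
      exact Subtype.ext hab
  omega

end grp

section even

variable {F V : Type*} [Field F] [AddCommGroup V] [Module F V] {Q : QuadraticForm F V}

/-- the centre consists of `± 1` -/
theorem center_cases (hG : Good Q) {z : ↥(E Q)} (hz : z ∈ center ↥(E Q)) :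
    z = 1 ∨ ∀ v, (z : V ≃ₗ[F] V) v = -v := by
  obtain ⟨c, hc⟩ := scalar_of_center hG hz
  obtain ⟨x, y, h⟩ := hG.exists_hyp
  have h1 : c * c = 1 := by
    have h2 : polar Q ((z : V ≃ₗ[F] V) x) ((z : V ≃ₗ[F] V) y) = polar Q x y := polar_map (E_le_O z.2) x y
    rw [hc, hc, polar_smul_left, polar_smul_right, h.pair] at h2
    simpa [mul_assoc] using h2
  have h2 : (c - 1) * (c + 1) = 0 := by linear_combination h1
  rcases mul_eq_zero.1 h2 with h3 | h3
  · left
    apply ext_E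
    intro v
    rw [hc, sub_eq_zero.1 h3, one_smul]
    rfl
  · right
    intro v
    rw [hc, eq_neg_of_add_eq_zero_left h3, neg_smul, one_smul]

theorem neg_mem_center {z : ↥(E Q)} (hz : ∀ v, (z : V ≃ₗ[F] V) v = -v) : z ∈ center ↥(E Q) := by
  rw [mem_center_iff]
  intro g
  apply ext_E
  intro v
  show (g : V ≃ₗ[F] V) ((z : V ≃ₗ[F] V) v) = (z : V ≃ₗ[F] V) ((g : V ≃ₗ[F] V) v)
  rw [hz, hz, map_neg]

theorem orderOf_mk_even (hG : Good Q) {g : ↥(E Q)} {N : ℕ} (hg : orderOf g = 2 * N)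
    (hgN : ∀ v, ((g ^ N : ↥(E Q)) : V ≃ₗ[F] V) v = -v) : orderOf ((g : ↥(E Q)) : P Q) = N := by
  apply Nat.dvd_antisymm
  · apply orderOf_dvd_of_pow_eq_one
    rw [← QuotientGroup.mk_pow, QuotientGroup.eq_one_iff]
    exact neg_mem_center hgN
  · have h1 : g ^ orderOf ((g : ↥(E Q)) : P Q) ∈ center ↥(E Q) := by
      rw [← QuotientGroup.eq_one_iff, QuotientGroup.mk_pow, pow_orderOf_eq_one]
    have h2 := center_sq hG h1
    rw [← pow_mul, ← orderOf_dvd_iff_pow_eq_one, hg, mul_comm] at h2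
    exact Nat.dvd_of_mul_dvd_mul_right (by norm_num) h2

/-- **The bound for the classes**, even order. -/
theorem orb_even [Finite F] [FiniteDimensional F V] (hG : Good Q) (h7 : 7 ≤ finrank F V) [Finite (P Q)]
    {A : Subgroup (MulAut (P Q))} (hA : ∀ α ∈ A, Pt hG α) {g : ↥(E Q)} {N w : ℕ} (hN : Even N) (hN0 : 0 < N)
    (hg : orderOf g = 2 * N) (hgN : ∀ v, ((g ^ N : ↥(E Q)) : V ≃ₗ[F] V) v = -v)
    (hev : HasEV (lin g) (2 * N)) (hw : finrank F (LinearMap.range (lin g - 1)) ≤ w) :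
    Orb A {y : P Q | y ∈ zpowers ((g : ↥(E Q)) : P Q) ∧ N ∣ orderOf y} (Nat.card (F ≃+* F) * w) := by
  classical
  have := finite_E (Q := Q)
  have hgo := orderOf_mk_even hG hg hgN
  rintro y ⟨hy, hvy⟩
  obtain ⟨i, hi⟩ : ∃ i : ℕ, ((g : ↥(E Q)) : P Q) ^ i = y := by
    rw [← mem_powers_iff_mem_zpowers] at hy
    exact hy
  have hyN : orderOf y = N := Nat.dvd_antisymm (by rw [← hgo]; exact orderOf_dvd_of_mem_zpowers hy) hvy
  have hcop : Nat.Coprime N i := by
    rw [← hi, orderOf_pow, hgo] at hyN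
    have h1 : N.gcd i ∣ N := Nat.gcd_dvd_left _ _
    obtain ⟨c, hc⟩ := h1
    have h2 : 0 < N.gcd i := Nat.gcd_pos_of_pos_left _ hN0
    have h3 : N / N.gcd i = c := Nat.div_eq_of_eq_mul_right h2 hc
    rw [h3] at hyN
    rw [hyN] at hc
    have h4 : 1 * N = N.gcd i * N := by rw [one_mul]; exact hc
    exact (Nat.eq_of_mul_eq_mul_right hN0 h4).symm
  have hiodd : Odd i := by
    rw [← Nat.not_even_iff_odd]
    intro he
    have h1 : 2 ∣ N.gcd i := Nat.dvd_gcd hN.two_dvd he.two_dvd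
    rw [hcop] at h1
    omega
  have hcop2 : Nat.Coprime (2 * N) i := Nat.Coprime.mul_left (Nat.coprime_two_left.2 hiodd) hcop
  set h : ↥(E Q) := g ^ i with hh
  have hhy : ((h : ↥(E Q)) : P Q) = y := by rw [hh, QuotientGroup.mk_pow, hi]
  have ho : orderOf h = 2 * N := by rw [hh, orderOf_pow, hg, hcop2, Nat.div_one]
  have hhN : ∀ v, ((h ^ N : ↥(E Q)) : V ≃ₗ[F] V) v = -v := by
    have h1 : h ^ N = (g ^ N) ^ i := by rw [hh, ← pow_mul, ← pow_mul, mul_comm]
    have h2 : ∀ j v, (((g ^ N) ^ (2 * j + 1) : ↥(E Q)) : V ≃ₗ[F] V) v = -v := by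
      intro j
      induction j with
      | zero => intro v; rw [mul_zero, zero_add, pow_one]; exact hgN v
      | succ j ih =>
        intro v
        have h3 : (g ^ N) ^ (2 * (j + 1) + 1) = (g ^ N) ^ (2 * j + 1) * ((g ^ N) * (g ^ N)) := by
          rw [← pow_two, ← pow_add]
          congr 1
        rw [h3]
        show (((g ^ N) ^ (2 * j + 1) : ↥(E Q)) : V ≃ₗ[F] V) (((g ^ N : ↥(E Q)) : V ≃ₗ[F] V)
          (((g ^ N : ↥(E Q)) : V ≃ₗ[F] V) v)) = -v
        rw [ih, hgN, hgN, neg_neg]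
    obtain ⟨j, hj⟩ := hiodd
    rw [h1, hj]
    exact h2 j
  have hlin : lin h = lin g ^ i := by rw [hh, map_pow]
  have hev' : HasEV (lin h) (2 * N) := by
    rw [hlin]
    refine hev.pow ?_ (by omega)
    rw [hcop2, Nat.div_one]
  have hw' : finrank F (LinearMap.range (lin h - 1)) ≤ w := by
    rw [hlin]
    exact (Submodule.finrank_mono (range_pow_le _ i)).trans hw
  obtain ⟨a, R, ha, hR, hkey⟩ := ev_bound (by omega) ((orderOf_lin h).trans ho) hev' hw'
  have key : ∀ z : {z // z ∈ {y : P Q | y ∈ zpowers ((g : ↥(E Q)) : P Q) ∧ N ∣ orderOf y} ∧ ∃ α ∈ A, α y = z},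
      ∃ k : ℕ, ((h ^ k : ↥(E Q)) : P Q) = z ∧ a ^ k ∈ R := by
    rintro ⟨z, ⟨hz, -⟩, α, hα, hαz⟩
    have hzy : orderOf z = orderOf y := by rw [← hαz]; exact MulEquiv.orderOf_eq α y
    have h1 := mem_zpowers_of_order hy hz hzy
    obtain ⟨k, hk⟩ : ∃ k : ℕ, y ^ k = z := by
      rw [← mem_powers_iff_mem_zpowers] at h1
      exact h1
    obtain ⟨M, σ, c, hM, hMg⟩ := Cfsg.Agent.ClassicalGeometry.OrthAut4.exists_semi_P hG h7 α (hA α hα)
    have h2 : ((conjE hM h : ↥(E Q)) : P Q) = ((h ^ k : ↥(E Q)) : P Q) := by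
      rw [← hMg, hhy, hαz, QuotientGroup.mk_pow, hhy, hk]
    have h3 : (h ^ k)⁻¹ * conjE hM h ∈ center ↥(E Q) := by
      rw [← QuotientGroup.eq]
      exact h2.symm
    have hyN' : y ^ N = 1 := by rw [← hyN]; exact pow_orderOf_eq_one y
    obtain ⟨k', hk', h4⟩ : ∃ k' : ℕ, y ^ k' = z ∧ conjE hM h = h ^ k' := by
      rcases center_cases hG h3 with h5 | h5
      · exact ⟨k, hk, (inv_mul_eq_one.1 h5).symm⟩
      · refine ⟨k + N, by rw [pow_add, hyN', mul_one, hk], ?_⟩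
        have h6 : (h ^ k)⁻¹ * conjE hM h = h ^ N := by
          apply ext_E
          intro v
          rw [h5, hhN]
        rw [pow_add, ← h6]
        group
    refine ⟨k', by rw [QuotientGroup.mk_pow, hhy, hk'], ?_⟩
    refine hkey M σ hM.smul k' fun v => ?_
    rw [← map_pow, lin_apply, ← h4, conjE_apply, lin_apply]
  choose k hk1 hk2 using key
  refine le_trans ?_ hR
  rw [← Nat.card_eq_finsetCard R]
  refine Nat.card_le_card_of_injective (fun z => (⟨a ^ k z, hk2 z⟩ : R)) fun z z' hzz => ?_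
  have h1 : a ^ k z = a ^ k z' := congrArg Subtype.val hzz
  have h3 := modEq_of_pow_eq (by rw [ha]; omega) h1
  rw [ha, ← ho] at h3
  have h2 : h ^ k z = h ^ k z' := by
    rw [pow_eq_pow_iff_modEq]
    exact h3
  apply Subtype.ext
  rw [← hk1 z, ← hk1 z', h2]

end even

end Cfsg.Agent.H320.Der
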