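import Cfsg.Agent.H320.Der.Cls
import Cfsg.Agent.H377.ToOmega

/-!
# Semiregular isometries (helper320, S3502)

`EltS F n ε N` : a nondegenerate quadratic form of type `ε` in dimension `2 n` with an isometry of order `N`, no power of
which different from `1` fixes a nonzero vector.
* `eltS_plus` (`N ∣ q ^ k - 1`), `eltS_minus` (`N ∣ q ^ k + 1`, `N` odd)
* `HasEV.of_semi`
* `exists_E_plus`, `exists_E_minus` : the elements of `E Q`
-/

set_option autoImplicit false
set_option linter.unusedSectionVars false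
set_option linter.style.haveILetI false

namespace Cfsg.Agent.H320.Der

open Polynomial Module Subgroup QuadraticMap
open Cfsg.Agent.LieClassical.OrthCore Cfsg.Agent.LieClassical.OrthForms Cfsg.Agent.H403.Classify Cfsg.Agent.H377

/-- no nontrivial power fixes a nonzero vector -/
def Sr {F V : Type*} [Field F] [AddCommGroup V] [Module F V] (g : Module.End F V) (N : ℕ) : Prop :=
  ∀ v : V, v ≠ 0 → ∀ j : ℕ, (g ^ j) v = v → N ∣ j

section

variable (F : Type*) [Field F] [Finite F]

/-- A nondegenerate quadratic form of type `ε` in dimension `2n` has a semiregular isometry of order `N`. -/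
def EltS (n : ℕ) (ε : ℤ) (N : ℕ) : Prop :=
  0 < N ∧ ∃ (Q : QuadraticForm F (Fin (2 * n) → F)) (g : Module.End F (Fin (2 * n) → F)),
    Nondeg Q ∧ HasSign (⇑Q) n ε ∧ (∀ v, Q (g v) = Q v) ∧ orderOf g = N ∧ Sr g N

variable {F}

theorem EltS.elt {n : ℕ} {ε : ℤ} {N : ℕ} (h : EltS F n ε N) : Elt F n ε N := by
  obtain ⟨h1, Q, g, h2, h3, h4, h5, -⟩ := h
  exact ⟨h1, Q, g, h2, h3, h4, h5⟩

theorem EltS.of {V : Type*} [AddCommGroup V] [Module F V] [Finite V] {Q : QuadraticForm F V} {g : Module.End F V}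
    {n : ℕ} (hn : Module.finrank F V = 2 * n)
    (hQ : Nondeg Q) {ε : ℤ} (hs : HasSign (⇑Q) n ε) (hg : ∀ v, Q (g v) = Q v) {N : ℕ} (hN : 0 < N)
    (ho : orderOf g = N) (hr : Sr g N) : EltS F n ε N := by
  have : Module.Finite F V := Module.Finite.of_finite
  let e : V ≃ₗ[F] (Fin (2 * n) → F) := (Module.finBasisOfFinrankEq F V hn).equivFun
  have hpow : ∀ k : ℕ, (e.conj g) ^ k = e.conj (g ^ k) := by
    intro k
    change (LinearEquiv.conjRingEquiv e g) ^ k = LinearEquiv.conjRingEquiv e (g ^ k)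
    rw [map_pow]
  refine ⟨hN, Q.comp (e.symm : _ →ₗ[F] V), e.conj g, ?_, ?_, ?_, ?_, ?_⟩
  · intro x hx
    have h1 : e.symm x = 0 := by
      apply hQ
      intro y
      have := hx (e y)
      change Q (e.symm (x + e y)) - Q (e.symm x) - Q (e.symm (e y)) = 0 at this
      rw [map_add, LinearEquiv.symm_apply_apply] at this
      exact this
    exact (LinearEquiv.map_eq_zero_iff _).1 h1
  · refine hs.congr e.toEquiv fun v => ?_
    change Q (e.symm (e v)) = Q v
    rw [LinearEquiv.symm_apply_apply]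
  · intro v
    change Q (e.symm (e (g (e.symm v)))) = Q (e.symm v)
    rw [LinearEquiv.symm_apply_apply, hg]
  · rw [← ho, orderOf_eq_orderOf_iff]
    intro k
    rw [hpow]
    constructor
    · intro h
      apply e.conj.injective
      rw [h]
      exact (LinearEquiv.conjRingEquiv e).map_one.symm
    · intro h
      rw [h]
      exact (LinearEquiv.conjRingEquiv e).map_one
  · intro v hv j hj
    rw [hpow] at hj
    change e ((g ^ j) (e.symm v)) = v at hj
    refine hr (e.symm v) (fun h => hv ((LinearEquiv.map_eq_zero_iff _).1 h)) j ?_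
    apply e.injective
    rw [hj, LinearEquiv.apply_symm_apply]

theorem EltS.dvd {n : ℕ} {ε : ℤ} {N M : ℕ} (h : EltS F n ε N) (hM : M ∣ N) : EltS F n ε M := by
  obtain ⟨hN, Q, g, hQ, hs, hg, ho, hr⟩ := h
  obtain ⟨c, hc⟩ := hM
  have hc0 : c ≠ 0 := by
    rintro rfl
    omega
  have hM0 : 0 < M := by
    rcases Nat.eq_zero_or_pos M with rfl | h
    · omega
    · exact h
  refine ⟨hM0, Q, g ^ c, hQ, hs, fun v => isom_pow hg c v, ?_, ?_⟩
  · rw [orderOf_pow' g hc0, ho, hc, Nat.gcd_eq_right (Dvd.intro_left _ rfl)]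
    exact Nat.mul_div_cancel _ (Nat.pos_of_ne_zero hc0)
  · intro v hv j hj
    rw [← pow_mul] at hj
    have h1 := hr v hv _ hj
    rw [hc, mul_comm M c] at h1
    exact Nat.dvd_of_mul_dvd_mul_left (Nat.pos_of_ne_zero hc0) h1

/-- Restriction of scalars. -/
theorem EltS.res {K : Type*} [Field K] [Finite K] [Algebra F K] {n : ℕ} {ε : ℤ} {N : ℕ} (h : EltS K n ε N) :
    EltS F (Module.finrank F K * n) ε N := by
  obtain ⟨hN, Q, g, hQ, hs, hg, ho, hr⟩ := h
  have : Module.Finite F K := Module.Finite.of_finite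
  let Q' : QuadraticForm F (Fin (2 * n) → K) := (Algebra.trace F K).compQuadraticMap' Q
  have hQ' : ∀ v, Q' v = Algebra.trace F K (Q v) := fun v => rfl
  refine EltS.of (V := Fin (2 * n) → K) (Q := Q') (g := g.restrictScalars F) ?_ ?_ ?_ ?_ hN ?_ ?_
  · rw [Module.finrank_pi_fintype, Finset.sum_const, Finset.card_univ, Fintype.card_fin, smul_eq_mul]
    ring
  · intro x hx
    apply hQ
    intro y
    have h1 : ∀ c : K, Algebra.trace F K (c * polar Q x y) = 0 := by
      intro c
      have h2 := hx (c • y)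
      simp only [polar, hQ'] at h2
      rw [← map_sub, ← map_sub] at h2
      have h3 : polar Q x (c • y) = c * polar Q x y := by
        rw [polar_smul_right, smul_eq_mul]
      rw [← h3]
      exact h2
    by_contra hne
    obtain ⟨t, ht⟩ := Algebra.trace_surjective F K 1
    have h5 := h1 (t * (polar Q x y)⁻¹)
    rw [mul_assoc, inv_mul_cancel₀ hne, mul_one, ht] at h5
    exact one_ne_zero h5
  · exact hs.res
  · intro v
    rw [hQ', hQ']
    congr 1
    exact hg v
  · rw [orderOf_restrictScalars, ho]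
  · intro v hv j hj
    refine hr v hv j ?_
    have h : ∀ (k : ℕ) (v : Fin (2 * n) → K), ((g.restrictScalars F : Module.End F (Fin (2 * n) → K)) ^ k) v =
        (g ^ k) v := by
      intro k
      induction k with
      | zero => intro v; rfl
      | succ k ih =>
        intro v
        rw [pow_succ, pow_succ, Module.End.mul_apply, Module.End.mul_apply, ih]
        rfl
    rw [← h]
    exact hj

theorem eltS_hyp {N : ℕ} (hN : N ∣ Nat.card F - 1) : EltS F 1 1 N := by
  have hq := Finite.one_lt_card (α := F)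
  refine EltS.dvd ?_ hN
  obtain ⟨l, hl⟩ := IsCyclic.exists_ofOrder_eq_natCard (α := Fˣ)
  rw [Nat.card_units] at hl
  let g : Module.End F (F × F) :=
    ((l : F) • (LinearMap.id : F →ₗ[F] F)).prodMap (((l⁻¹ : Fˣ) : F) • (LinearMap.id : F →ₗ[F] F))
  have hg : ∀ (k : ℕ) (v : F × F), (g ^ k) v = (((l ^ k : Fˣ) : F) * v.1, (((l ^ k)⁻¹ : Fˣ) : F) * v.2) := by
    intro k
    induction k with
    | zero => intro v; simp
    | succ k ih =>
      intro v
      rw [pow_succ, Module.End.mul_apply, ih]
      change (((l ^ k : Fˣ) : F) * ((l : F) * v.1), (((l ^ k)⁻¹ : Fˣ) : F) * (((l⁻¹ : Fˣ) : F) * v.2)) = _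
      rw [pow_succ, mul_inv_rev, Units.val_mul, Units.val_mul, mul_assoc]
      congr 1
      rw [mul_comm ((l⁻¹ : Fˣ) : F) (((l ^ k)⁻¹ : Fˣ) : F), mul_assoc]
  refine EltS.of (V := F × F) (Q := hypQ F) (g := g) (by simp) hypQ_nondeg hasSign_mul ?_ (by omega) ?_ ?_
  · intro v
    have h := hg 1 v
    rw [pow_one] at h
    rw [h, hypQ_apply, hypQ_apply, pow_one]
    change (l : F) * v.1 * (((l⁻¹ : Fˣ) : F) * v.2) = v.1 * v.2
    have h1 : (l : F) * ((l⁻¹ : Fˣ) : F) = 1 := Units.mul_inv l
    linear_combination v.1 * v.2 * h1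
  · rw [← hl, orderOf_eq_orderOf_iff]
    intro k
    constructor
    · intro h
      have h1 := hg k (1, 0)
      rw [h] at h1
      have h2 := congrArg Prod.fst h1
      simp only [mul_one] at h2
      exact Units.ext h2.symm
    · intro h
      ext <;> simp [hg, h]
  · rintro ⟨v1, v2⟩ hv j hj
    rw [hg] at hj
    rw [← hl]
    apply orderOf_dvd_of_pow_eq_one
    have h1 := congrArg Prod.fst hj
    have h2 := congrArg Prod.snd hj
    change ((l ^ j : Fˣ) : F) * v1 = v1 at h1
    change (((l ^ j)⁻¹ : Fˣ) : F) * v2 = v2 at h2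
    by_cases hv1 : v1 = 0
    · have hv2 : v2 ≠ 0 := by
        rintro rfl
        exact hv (by rw [hv1]; rfl)
      have h3 : (((l ^ j)⁻¹ : Fˣ) : F) = 1 := mul_right_cancel₀ hv2 (by rw [h2, one_mul])
      exact inv_eq_one.1 (Units.ext h3)
    · have h3 : ((l ^ j : Fˣ) : F) = 1 := mul_right_cancel₀ hv1 (by rw [h1, one_mul])
      exact Units.ext h3

end

section plane

variable {F V : Type*} [Field F] [AddCommGroup V] [Module F V] {Q : QuadraticForm F V}

/-- an isometry of odd order of an anisotropic plane which fixes a nonzero vector is trivial -/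
theorem eq_one_of_fix (hQ : Nondeg Q) (h2 : finrank F V = 2) (ha : ∀ v, Q v = 0 → v = 0) {h : Module.End F V}
    (hh : ∀ v, Q (h v) = Q v) {N : ℕ} (hN : Odd N) (hN1 : h ^ N = 1) {v : V} (hv : v ≠ 0) (hv1 : h v = v) : h = 1 := by
  have hfin : FiniteDimensional F V := FiniteDimensional.of_finrank_pos (by omega)
  have hpol : ∀ a b, polar Q (h a) (h b) = polar Q a b := fun a b => by
    simp only [polar, ← map_add, hh]
  obtain ⟨n0, hn0⟩ : ∃ n0 : V, ∀ t, polar Q v t = 0 → ∃ c : F, t = c • n0 := by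
    let B : V →ₗ[F] F := (polarBilin Q) v
    have hB : B ≠ 0 := by
      intro h0
      apply hv
      apply hQ
      intro y
      exact LinearMap.congr_fun h0 y
    have hr : finrank F (LinearMap.range B) = 1 := by
      have h3 : LinearMap.range B = ⊤ := LinearMap.range_eq_top.2 (LinearMap.surjective hB)
      rw [h3, finrank_top, finrank_self]
    have h3 := LinearMap.finrank_range_add_finrank_ker B
    have h4 : finrank F (LinearMap.ker B) = 1 := by omega
    obtain ⟨n, -, hn⟩ := finrank_eq_one_iff'.1 h4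
    refine ⟨n, fun t ht => ?_⟩
    obtain ⟨c, hc⟩ := hn ⟨t, by rw [LinearMap.mem_ker]; exact ht⟩
    exact ⟨c, (congrArg Subtype.val hc).symm⟩
  have hinj : Function.Injective h := by
    obtain ⟨k, hk⟩ := hN
    intro x y hxy
    have h3 : ∀ z, (h ^ (2 * k)) (h z) = z := by
      intro z
      rw [← Module.End.mul_apply, ← pow_succ, ← hk, hN1]
      rfl
    rw [← h3 x, hxy, h3]
  refine LinearMap.ext fun w => ?_
  change h w = w
  have key : ∀ u : V, polar Q v u = polar Q v w → Q u = Q w → ∃ a : F, u = w + a • n0 ∧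
      a * (polar Q w n0 + a * Q n0) = 0 := by
    intro u hu1 hu2
    obtain ⟨a, ha'⟩ := hn0 (u - w) (by
      have : polar Q v (u - w) = polar Q v u - polar Q v w := polar_sub_right ..
      rw [this, hu1, sub_self])
    have hu : u = w + a • n0 := by rw [← ha']; abel
    refine ⟨a, hu, ?_⟩
    rw [hu, Q_add, QuadraticMap.map_smul, polar_smul_right] at hu2
    simp only [smul_eq_mul] at hu2
    linear_combination hu2
  have e1 : polar Q v (h w) = polar Q v w := by
    have := hpol v w
    rwa [hv1] at this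
  have e2 : polar Q v (h (h w)) = polar Q v w := by
    have := hpol v (h w)
    rw [hv1] at this
    rw [this, e1]
  obtain ⟨a, ha1, ha2⟩ := key (h w) e1 (hh w)
  obtain ⟨b, hb1, hb2⟩ := key (h (h w)) e2 (by rw [hh, hh])
  rcases mul_eq_zero.1 ha2 with h3 | h3
  · rw [ha1, h3, zero_smul, add_zero]
  rcases mul_eq_zero.1 hb2 with h4 | h4
  · rw [h4, zero_smul, add_zero] at hb1
    obtain ⟨k, hk⟩ := hN
    have h5 : ∀ j : ℕ, (h ^ (2 * j)) w = w := by
      intro j
      induction j with
      | zero => rfl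
      | succ j ih =>
        rw [show 2 * (j + 1) = 2 * j + 1 + 1 by ring, pow_succ, pow_succ, Module.End.mul_apply, Module.End.mul_apply,
          hb1, ih]
    have h6 := h5 k
    have h7 : (h ^ N) w = h w := by
      rw [hk, pow_succ', Module.End.mul_apply, h6]
    rw [hN1] at h7
    exact h7.symm
  · have h5 : (a - b) * Q n0 = 0 := by linear_combination h3 - h4
    rcases mul_eq_zero.1 h5 with h6 | h6
    · have h7 : h (h w) = h w := by rw [hb1, ha1, sub_eq_zero.1 h6]
      exact hinj h7
    · rw [ha1, ha n0 h6, smul_zero, add_zero]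

end plane

section

variable {F : Type*} [Field F] [Finite F]

theorem eltS_ell {N : ℕ} (hodd : Odd N) (hN : N ∣ Nat.card F + 1) : EltS F 1 (-1) N := by
  obtain ⟨h0, Q, g, hQ, hs, hg, ho⟩ := elt_ell (F := F) hN
  refine ⟨h0, Q, g, hQ, hs, hg, ho, ?_⟩
  obtain ⟨a, b, hab⟩ := exists_aniso F
  obtain ⟨e, he⟩ := exists_minus le_rfl (by rw [Module.finrank_fin_fun]) Q hQ hs hab
  have ha : ∀ v, Q v = 0 → v = 0 := by
    intro v hv
    obtain ⟨u, rfl⟩ := e.surjective v
    rw [he, Cfsg.quadFormMinus, Finset.sum_eq_zero (fun i _ => i.elim0), zero_add] at hv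
    obtain ⟨h2, h3⟩ := hab _ _ hv
    have hu : u = 0 := by
      funext i
      rcases i with (i | i) | i
      · exact i.elim0
      · exact i.elim0
      · fin_cases i
        · exact h2
        · exact h3
    rw [hu, map_zero]
  intro v hv j hj
  have hgN : g ^ N = 1 := by rw [← ho]; exact pow_orderOf_eq_one g
  have h1 : g ^ j = 1 := by
    refine eq_one_of_fix hQ (by rw [Module.finrank_fin_fun]) ha (fun v => isom_pow hg j v) hodd ?_ hv hj
    rw [← pow_mul, mul_comm j N, pow_mul, hgN, one_pow]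
  rw [← ho]
  exact orderOf_dvd_of_pow_eq_one h1

/-- Split tori. -/
theorem eltS_plus {k N : ℕ} (hk : 1 ≤ k) (hN : N ∣ Nat.card F ^ k - 1) : EltS F k 1 N := by
  obtain ⟨p, _⟩ := CharP.exists F
  haveI : Fact p.Prime := ⟨CharP.char_is_prime F p⟩
  haveI : NeZero k := ⟨by omega⟩
  have h := EltS.res (F := F) (eltS_hyp (F := FiniteField.Extension F p k) (N := N) (by
    rwa [FiniteField.natCard_extension]))
  rwa [FiniteField.finrank_extension, mul_one] at h

/-- Nonsplit tori. -/
theorem eltS_minus {k N : ℕ} (hk : 1 ≤ k) (hodd : Odd N) (hN : N ∣ Nat.card F ^ k + 1) : EltS F k (-1) N := by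
  obtain ⟨p, _⟩ := CharP.exists F
  haveI : Fact p.Prime := ⟨CharP.char_is_prime F p⟩
  haveI : NeZero k := ⟨by omega⟩
  have h := EltS.res (F := F) (eltS_ell (F := FiniteField.Extension F p k) (N := N) hodd (by
    rwa [FiniteField.natCard_extension]))
  rwa [FiniteField.finrank_extension, mul_one] at h

end

end Cfsg.Agent.H320.Der
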