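import Cfsg.Agent.H320.Der.Orb
import Cfsg.Agent.AutOrth.Main

/-!
# Eigenvalues and semilinear conjugation (helper320, S3502)

* `HasEV g n` : `g` has an eigenvalue of order `n` in the algebraic closure
* `ev_bound` : if `g` has order `n`, an eigenvalue of order `n` and `rk (g - 1) ≤ w` then at most `|Aut F| w` powers of `g` are
  conjugate to `g` under semilinear maps
-/

set_option autoImplicit false

namespace Cfsg.Agent.H320.Der

open Polynomial Module

section ev

variable {F V : Type*} [Field F] [AddCommGroup V] [Module F V]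

/-- `g` has an eigenvalue of order `n` -/
def HasEV (g : Module.End F V) (n : ℕ) : Prop :=
  ∃ a : AlgebraicClosure F, orderOf a = n ∧ aeval a (minpoly F g) = 0

theorem ev_kills {K : Type*} [Field K] [Algebra F K] {g : Module.End F V} {a : K} (ha : aeval a (minpoly F g) = 0)
    {p : F[X]} (hp : aeval g p = 0) : aeval a p = 0 := by
  obtain ⟨c, rfl⟩ := minpoly.dvd F g hp
  rw [map_mul, ha, zero_mul]

theorem ev_pow {K : Type*} [Field K] [Algebra F K] {g : Module.End F V} {a : K} (ha : aeval a (minpoly F g) = 0)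
    (k : ℕ) : aeval (a ^ k) (minpoly F (g ^ k)) = 0 := by
  have h1 : aeval g ((minpoly F (g ^ k)).comp (X ^ k)) = 0 := by
    rw [aeval_comp, map_pow, aeval_X, minpoly.aeval]
  have h2 := ev_kills ha h1
  rwa [aeval_comp, map_pow, aeval_X] at h2

theorem HasEV.pow {g : Module.End F V} {n : ℕ} (h : HasEV g n) {k m : ℕ} (hk : n / n.gcd k = m) (hn : 0 < n) :
    HasEV (g ^ k) m := by
  obtain ⟨a, ha, h1⟩ := h
  refine ⟨a ^ k, ?_, ev_pow h1 k⟩
  rcases Nat.eq_zero_or_pos k with rfl | hk0
  · rw [Nat.gcd_zero_right, Nat.div_self hn] at hk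
    rw [pow_zero, orderOf_one, hk]
  · rw [orderOf_pow' a hk0.ne', ha, hk]

theorem semi_aeval {M : V ≃+ V} {σ : F ≃+* F} (hM : ∀ (c : F) (v : V), M (c • v) = σ c • M v)
    {g g' : Module.End F V} (h : ∀ v, g' (M v) = M (g v)) (p : F[X]) (u : V) :
    aeval g' (p.map (σ : F →+* F)) (M u) = M (aeval g p u) := by
  have hp : ∀ (n : ℕ) (u : V), (g' ^ n) (M u) = M ((g ^ n) u) := by
    intro n
    induction n with
    | zero => intro u; rfl
    | succ n ih =>
      intro u
      rw [pow_succ, Module.End.mul_apply, h, ih, pow_succ, Module.End.mul_apply]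
  induction p using Polynomial.induction_on' with
  | add p q hp' hq' =>
    rw [Polynomial.map_add, map_add, map_add, LinearMap.add_apply, LinearMap.add_apply, map_add, hp', hq']
  | monomial n c =>
    rw [Polynomial.map_monomial, aeval_monomial, aeval_monomial, Module.End.mul_apply, Module.End.mul_apply,
      Module.algebraMap_end_apply, Module.algebraMap_end_apply, hp, hM]
    rfl

theorem semi_kill {M : V ≃+ V} {σ : F ≃+* F} (hM : ∀ (c : F) (v : V), M (c • v) = σ c • M v)
    {g g' : Module.End F V} (h : ∀ v, g' (M v) = M (g v)) {p : F[X]} (hp : aeval g p = 0) :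
    aeval g' (p.map (σ : F →+* F)) = 0 := by
  refine LinearMap.ext fun v => ?_
  obtain ⟨u, rfl⟩ := M.surjective v
  rw [semi_aeval hM h, hp]
  simp

theorem aeval_restrict {g : Module.End F V} {W : Submodule F V} (hW : ∀ v ∈ W, g v ∈ W) (p : F[X]) (x : W) :
    ((aeval (g.restrict hW) p x : W) : V) = aeval g p x := by
  have hp : ∀ (n : ℕ) (u : W), ((((g.restrict hW) ^ n) u : W) : V) = (g ^ n) u := by
    intro n
    induction n with
    | zero => intro u; rfl
    | succ n ih =>
      intro u
      rw [pow_succ, Module.End.mul_apply, ih, pow_succ, Module.End.mul_apply]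
      rfl
  induction p using Polynomial.induction_on' with
  | add p q hp' hq' =>
    rw [map_add, map_add, LinearMap.add_apply, LinearMap.add_apply, Submodule.coe_add, hp', hq']
  | monomial n c =>
    rw [aeval_monomial, aeval_monomial, Module.End.mul_apply, Module.End.mul_apply,
      Module.algebraMap_end_apply, Module.algebraMap_end_apply, Submodule.coe_smul, hp]

/-- a polynomial of degree at most the rank of `g - 1` which kills the range of `g - 1` -/
theorem exists_poly [FiniteDimensional F V] (g : Module.End F V) {w : ℕ}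
    (hw : finrank F (LinearMap.range (g - 1)) ≤ w) :
    ∃ f : F[X], f ≠ 0 ∧ f.natDegree ≤ w ∧ aeval g ((X - 1) * f) = 0 := by
  have hW : ∀ v ∈ LinearMap.range (g - 1), g v ∈ LinearMap.range (g - 1) := by
    rintro _ ⟨u, rfl⟩
    refine ⟨g u, ?_⟩
    simp
  refine ⟨(g.restrict hW).charpoly, (LinearMap.charpoly_monic _).ne_zero, ?_, ?_⟩
  · rw [LinearMap.charpoly_natDegree]
    exact hw
  · refine LinearMap.ext fun v => ?_
    rw [mul_comm, map_mul, Module.End.mul_apply]
    have h1 : aeval g (X - 1 : F[X]) = g - 1 := by simp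
    rw [h1]
    have h2 := aeval_restrict hW (g.restrict hW).charpoly ⟨(g - 1) v, v, rfl⟩
    rw [LinearMap.aeval_self_charpoly] at h2
    exact h2.symm

/-- **The bound.** -/
theorem ev_bound [Finite F] [FiniteDimensional F V] {g : Module.End F V} {n w : ℕ} (hn : 1 < n) (hg : orderOf g = n)
    (hev : HasEV g n) (hw : finrank F (LinearMap.range (g - 1)) ≤ w) :
    ∃ (a : AlgebraicClosure F) (R : Finset (AlgebraicClosure F)), orderOf a = n ∧ R.card ≤ Nat.card (F ≃+* F) * w ∧
      ∀ (M : V ≃+ V) (σ : F ≃+* F), (∀ (c : F) (v : V), M (c • v) = σ c • M v) → ∀ k : ℕ,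
        (∀ v, (g ^ k) (M v) = M (g v)) → a ^ k ∈ R := by
  classical
  obtain ⟨a, ha, ha'⟩ := hev
  obtain ⟨f, hf0, hfw, hf⟩ := exists_poly g hw
  have : Finite (F ≃+* F) := Finite.of_injective (fun f : F ≃+* F => (f : F → F)) DFunLike.coe_injective
  have := Fintype.ofFinite (F ≃+* F)
  refine ⟨a, Finset.univ.biUnion fun σ : F ≃+* F =>
    ((f.map (σ : F →+* F)).map (algebraMap F (AlgebraicClosure F))).roots.toFinset, ha, ?_, ?_⟩
  · refine Finset.card_biUnion_le.trans ?_
    have h5 : ∀ σ ∈ (Finset.univ : Finset (F ≃+* F)),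
        (((f.map (σ : F →+* F)).map (algebraMap F (AlgebraicClosure F))).roots.toFinset).card ≤ w := by
      intro σ _
      refine (Multiset.toFinset_card_le _).trans ((Polynomial.card_roots' _).trans ?_)
      rw [Polynomial.natDegree_map, Polynomial.natDegree_map]
      exact hfw
    refine (Finset.sum_le_card_nsmul _ _ _ h5).trans ?_
    rw [smul_eq_mul, Finset.card_univ, Nat.card_eq_fintype_card]
  · intro M σ hM k hk
    rw [Finset.mem_biUnion]
    refine ⟨σ, Finset.mem_univ _, ?_⟩
    rw [Multiset.mem_toFinset, Polynomial.mem_roots']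
    have hne : f.map (σ : F →+* F) ≠ 0 := (Polynomial.map_ne_zero_iff σ.injective).2 hf0
    refine ⟨(Polynomial.map_ne_zero_iff (algebraMap F (AlgebraicClosure F)).injective).2 hne, ?_⟩
    have h1 := ev_kills (ev_pow ha' k) (semi_kill hM hk hf)
    rw [Polynomial.map_mul, map_mul] at h1
    have h2 : aeval (a ^ k) ((X - 1 : F[X]).map (σ : F →+* F)) = a ^ k - 1 := by simp
    rw [h2] at h1
    have h3 : a ^ k - 1 ≠ 0 := by
      intro h4
      have h5 : n ∣ k := by
        rw [← ha]
        exact orderOf_dvd_of_pow_eq_one (sub_eq_zero.1 h4)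
      have h6 : g ^ k = 1 := by
        rw [← orderOf_dvd_iff_pow_eq_one, hg]
        exact h5
      rw [h6] at hk
      have h7 : g = 1 := by
        refine LinearMap.ext fun v => ?_
        exact (M.injective (hk v)).symm
      rw [h7, orderOf_one] at hg
      omega
    have h4 := (mul_eq_zero.1 h1).resolve_left h3
    rw [Polynomial.IsRoot.def, Polynomial.eval_map_algebraMap]
    exact h4

theorem range_pow_le (g : Module.End F V) (k : ℕ) :
    LinearMap.range (g ^ k - 1) ≤ LinearMap.range (g - 1) := by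
  obtain ⟨c, hc⟩ : g - 1 ∣ g ^ k - 1 := ⟨_, (mul_geom_sum g k).symm⟩
  rw [hc]
  rintro _ ⟨v, rfl⟩
  exact ⟨c v, rfl⟩

end ev

end Cfsg.Agent.H320.Der
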