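import Cfsg.Agent.H320.Der.Semi

/-!
# Torus elements of `E Q` (helper320, S3502)
-/

set_option autoImplicit false
set_option linter.unusedSectionVars false

namespace Cfsg.Agent.H320.Der

open Polynomial Module Subgroup QuadraticMap
open Cfsg.Agent.LieClassical.OrthCore Cfsg.Agent.LieClassical.OrthTrans Cfsg.Agent.LieClassical.OrthForms
  Cfsg.Agent.H403.Classify Cfsg.Agent.H377 Cfsg.Agent.AutOrth.Main

section ev

variable {F V W : Type*} [Field F] [AddCommGroup V] [Module F V] [AddCommGroup W] [Module F W]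

theorem hasEV_of_semi [FiniteDimensional F W] [Nontrivial W] {g : Module.End F W} {N : ℕ} (hN : 0 < N)
    (ho : orderOf g = N) (hr : Sr g N) : HasEV g N := by
  have hint : IsIntegral F g := Algebra.IsIntegral.isIntegral g
  obtain ⟨a, ha⟩ := IsAlgClosed.exists_aeval_eq_zero (AlgebraicClosure F) (minpoly F g) (minpoly.degree_pos hint).ne'
  have hgN : g ^ N = 1 := by rw [← ho]; exact pow_orderOf_eq_one g
  have haN : a ^ N = 1 := by
    have h1 := ev_kills ha (p := X ^ N - 1) (by simp [hgN])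
    simpa [sub_eq_zero] using h1
  have hd := orderOf_dvd_of_pow_eq_one haN
  have hd0 : 0 < orderOf a := Nat.pos_of_dvd_of_pos hd hN
  refine ⟨a, Nat.dvd_antisymm hd ?_, ha⟩
  have hia : IsIntegral F a := Algebra.IsIntegral.isIntegral a
  obtain ⟨v, hv⟩ := minpoly.dvd F a ha
  obtain ⟨t, ht⟩ := minpoly.dvd F a (p := X ^ orderOf a - 1) (by simp [pow_orderOf_eq_one])
  have hne : minpoly F g ≠ 0 := minpoly.ne_zero hint
  have hv0 : v ≠ 0 := by
    rintro rfl
    rw [mul_zero] at hv
    exact hne hv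
  have hdeg : v.natDegree < (minpoly F g).natDegree := by
    rw [hv, Polynomial.natDegree_mul (minpoly.ne_zero hia) hv0]
    have := minpoly.natDegree_pos hia
    omega
  have hvg : aeval g v ≠ 0 := by
    intro h0
    have h1 := Polynomial.natDegree_le_natDegree (minpoly.degree_le_of_ne_zero F g hv0 h0)
    omega
  obtain ⟨x, hx⟩ : ∃ x, aeval g v x ≠ 0 := by
    by_contra hcon
    push Not at hcon
    exact hvg (LinearMap.ext hcon)
  refine hr _ hx _ ?_
  have h1 : aeval g (minpoly F a) (aeval g v x) = 0 := by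
    rw [← Module.End.mul_apply, ← map_mul, ← hv, minpoly.aeval, LinearMap.zero_apply]
  have h2 : aeval g (X ^ orderOf a - 1 : F[X]) (aeval g v x) = 0 := by
    rw [ht, mul_comm, map_mul, Module.End.mul_apply, h1, map_zero]
  have h3 : aeval g (X ^ orderOf a - 1 : F[X]) = g ^ orderOf a - 1 := by simp
  rw [h3, LinearMap.sub_apply, sub_eq_zero] at h2
  exact h2

theorem aeval_embed {g : Module.End F W} {T : Module.End F V} {i : W →ₗ[F] V} (h : ∀ w, T (i w) = i (g w)) (p : F[X])
    (w : W) : aeval T p (i w) = i (aeval g p w) := by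
  have hp : ∀ (n : ℕ) (u : W), (T ^ n) (i u) = i ((g ^ n) u) := by
    intro n
    induction n with
    | zero => intro u; rfl
    | succ n ih =>
      intro u
      rw [pow_succ, Module.End.mul_apply, h, ih, pow_succ, Module.End.mul_apply]
  induction p using Polynomial.induction_on' with
  | add p q hp' hq' =>
    rw [map_add, map_add, LinearMap.add_apply, LinearMap.add_apply, map_add, hp', hq']
  | monomial n c =>
    rw [aeval_monomial, aeval_monomial, Module.End.mul_apply, Module.End.mul_apply,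
      Module.algebraMap_end_apply, Module.algebraMap_end_apply, map_smul, hp]

theorem HasEV.embed {g : Module.End F W} {T : Module.End F V} {i : W →ₗ[F] V} (hi : Function.Injective i)
    (h : ∀ w, T (i w) = i (g w)) {N : ℕ} (hg : HasEV g N) : HasEV T N := by
  obtain ⟨a, ha, ha'⟩ := hg
  refine ⟨a, ha, ev_kills ha' ?_⟩
  refine LinearMap.ext fun w => hi ?_
  rw [← aeval_embed h, minpoly.aeval]
  simp

theorem HasEV.dvd {g : Module.End F W} {N : ℕ} (h : HasEV g N) {m : ℕ} (hm : g ^ m = 1) : N ∣ m := by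
  obtain ⟨a, rfl, ha⟩ := h
  apply orderOf_dvd_of_pow_eq_one
  have h1 := ev_kills ha (p := X ^ m - 1) (by simp [hm])
  simpa [sub_eq_zero] using h1

end ev

section

universe u

variable {F : Type u} [Field F] [Finite F]

open scoped Matrix

/-- squares of isometries -/
theorem exists_omega {ι : Type} [Fintype ι] [DecidableEq ι] (Q : QuadraticForm F (ι → F)) (hQ : Nondeg Q)
    (h5 : 5 ≤ Fintype.card ι) {V : Type*} [AddCommGroup V] [Module F V] (Q' : V → F) (e : (ι → F) ≃ₗ[F] V)
    (he : ∀ u, Q' (e u) = Q u) (T : Module.End F V) (hT : ∀ v, Q' (T v) = Q' v) :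
    ∃ z : Cfsg.Omega F ⇑Q, ∀ x : ι → F,
      ((((z : Cfsg.isometryGroup F ⇑Q) : Matrix.GeneralLinearGroup ι F) : Matrix ι ι F)) *ᵥ x = e.symm (T (T (e x))) := by
  classical
  let φ : Module.End F V ≃ₐ[F] Matrix ι ι F := (e.symm.conjAlgEquiv F).trans LinearMap.toMatrixAlgEquiv'
  have hφ : ∀ (S : Module.End F V) (x : ι → F), (φ S).mulVec x = e.symm (S (e x)) := by
    intro S x
    show (LinearMap.toMatrix' (e.symm.conj S)).mulVec x = _
    rw [LinearMap.toMatrix'_mulVec]
    rfl
  have hM : ∀ x, Q ((φ T).mulVec x) = Q x := by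
    intro x
    rw [← he, ← he, hφ, e.apply_symm_apply, hT]
  have hinj : ∀ x, (φ T).mulVec x = 0 → x = 0 := by
    intro x hx
    apply hQ
    intro y
    have h1 : polar Q ((φ T).mulVec x) ((φ T).mulVec y) = polar Q x y := by
      rw [polar, polar, ← Matrix.mulVec_add, hM, hM, hM]
    rw [← h1, hx]
    simp [polar]
  have hunit : IsUnit (φ T) := by
    rw [← Matrix.mulVec_injective_iff_isUnit]
    intro x y hxy
    have h1 : (φ T).mulVec (x - y) = 0 := by
      rw [Matrix.mulVec_sub]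
      exact sub_eq_zero.2 hxy
    exact sub_eq_zero.1 (hinj _ h1)
  obtain ⟨M, hM'⟩ := hunit
  have hmem : M ∈ Cfsg.isometryGroup F ⇑Q := by
    rw [Cfsg.Agent.LieClassical.OrthFinite.mem_isometryGroup_iff]
    intro x
    rw [hM']
    exact hM x
  let g : Cfsg.isometryGroup F ⇑Q := ⟨M, hmem⟩
  refine ⟨⟨g * g, mul_self_mem_Omega Q hQ h5 g⟩, fun x => ?_⟩
  show ((M * M : Matrix.GeneralLinearGroup ι F) : Matrix ι ι F) *ᵥ x = _
  rw [Units.val_mul, ← Matrix.mulVec_mulVec, hM', hφ, hφ, e.apply_symm_apply]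

/-- **torus elements** -/
theorem exists_E {ι : Type} [Fintype ι] [DecidableEq ι] (Q : QuadraticForm F (ι → F)) (hG : Good Q)
    (h5 : 5 ≤ Fintype.card ι) {V : Type*} [AddCommGroup V] [Module F V] (Q' : V → F) (e : (ι → F) ≃ₗ[F] V)
    (he : ∀ u, Q' (e u) = Q u) (T : Module.End F V) (hT : ∀ v, Q' (T v) = Q' v) {N : ℕ} (hN : Odd N) (hTN : T ^ N = 1)
    {W : Type*} [AddCommGroup W] [Module F W] [FiniteDimensional F W] (i : W →ₗ[F] V) (hi : Function.Injective i)
    (g : Module.End F W)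
    (hg : ∀ w, T (i w) = i (g w)) (hr : ∀ x, ∃ w, T x - x = i w) (hev : HasEV g N) {w : ℕ} (hw : finrank F W ≤ w) :
    ∃ z : ↥(E Q), orderOf z = N ∧ HasEV (lin z) N ∧ finrank F (LinearMap.range (lin z - 1)) ≤ w := by
  obtain ⟨k, hk⟩ := hN
  have hpow : ∀ (j : ℕ) (v : V), Q' ((T ^ j) v) = Q' v := by
    intro j
    induction j with
    | zero => intro v; rfl
    | succ j ih => intro v; rw [pow_succ, Module.End.mul_apply, ih, hT]
  have hTT : ∀ v, (T ^ (k + 1)) ((T ^ (k + 1)) v) = T v := by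
    intro v
    rw [← Module.End.mul_apply, ← pow_add, show k + 1 + (k + 1) = N + 1 by omega, pow_succ, hTN, one_mul]
  obtain ⟨z0, hz0⟩ := exists_omega Q hG.nondeg h5 Q' e he (T ^ (k + 1)) (hpow _)
  have hz : ∀ x, lin (oe hG z0) x = e.symm (T (e x)) := by
    intro x
    rw [lin_apply, oe_apply, hz0, hTT]
  have hzp : ∀ (j : ℕ) (x : ι → F), (lin (oe hG z0) ^ j) x = e.symm ((T ^ j) (e x)) := by
    intro j
    induction j with
    | zero => intro x; simp
    | succ j ih =>
      intro x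
      rw [pow_succ, Module.End.mul_apply, ih, hz, pow_succ, Module.End.mul_apply, e.apply_symm_apply]
  have hev' : HasEV (lin (oe hG z0)) N := by
    refine HasEV.embed (i := (e.symm : V →ₗ[F] (ι → F)).comp i) (fun a b hab => hi (e.symm.injective hab)) ?_ hev
    intro w
    rw [LinearMap.comp_apply, LinearMap.comp_apply, hz]
    show e.symm (T (e (e.symm (i w)))) = e.symm (i (g w))
    rw [e.apply_symm_apply, hg]
  refine ⟨oe hG z0, Nat.dvd_antisymm ?_ ?_, hev', ?_⟩
  · apply orderOf_dvd_of_pow_eq_one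
    apply lin_injective
    rw [map_pow, map_one]
    refine LinearMap.ext fun x => ?_
    rw [hzp, hTN]
    simp
  · refine hev'.dvd ?_
    rw [← map_pow, pow_orderOf_eq_one, map_one]
  · have h1 : LinearMap.range (lin (oe hG z0) - 1) ≤ LinearMap.range ((e.symm : V →ₗ[F] (ι → F)).comp i) := by
      rintro _ ⟨x, rfl⟩
      obtain ⟨w, hw⟩ := hr (e x)
      refine ⟨w, ?_⟩
      rw [LinearMap.comp_apply, ← hw, LinearMap.sub_apply, hz, Module.End.one_apply]
      show e.symm (T (e x) - e x) = _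
      rw [map_sub, e.symm_apply_apply]
    refine (Submodule.finrank_mono h1).trans ((LinearMap.finrank_range_le _).trans hw)

/-- the data of a torus element -/
def TorE {ι : Type} [Fintype ι] [DecidableEq ι] (Q : QuadraticForm F (ι → F)) (w N : ℕ) : Prop :=
  ∃ z : ↥(E Q), orderOf z = N ∧ HasEV (lin z) N ∧ finrank F (LinearMap.range (lin z - 1)) ≤ w

theorem torE_of {ι : Type} [Fintype ι] [DecidableEq ι] {Q : QuadraticForm F (ι → F)} (hG : Good Q)
    (h5 : 5 ≤ Fintype.card ι) {m k N : ℕ} {δ ε : ℤ} (hk : 1 ≤ k) (hkm : k < m ∨ (k = m ∧ ε = δ))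
    (hε : ε = 1 ∨ ε = -1) (hδ : δ = 1 ∨ δ = -1)
    (hcl : ∀ {V : Type u} [AddCommGroup V] [Module F V] [Finite V], Module.finrank F V = 2 * m →
      ∀ Q' : QuadraticForm F V, Nondeg Q' → HasSign (⇑Q') m δ → ∃ e : (ι → F) ≃ₗ[F] V, ∀ u, Q' (e u) = Q u)
    (hN : Odd N) (h : EltS F k ε N) : TorE Q (2 * k) N := by
  obtain ⟨hN0, Q1, g, hQ1, hs, hg, ho, hr⟩ := h
  have : Nonempty (Fin (2 * k)) := ⟨⟨0, by omega⟩⟩
  have hev : HasEV g N := hasEV_of_semi hN0 ho hr
  have hgN : g ^ N = 1 := by rw [← ho]; exact pow_orderOf_eq_one g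
  rcases hkm with hkm | ⟨rfl, rfl⟩
  · have h1 : (ε * δ) = 1 ∨ (ε * δ) = -1 := by
      rcases hε with rfl | rfl <;> rcases hδ with rfl | rfl <;> simp
    obtain ⟨-, Q2, g2, hQ2, hs2, -, -⟩ := elt_one_pm (F := F) (n := m - k) (by omega) h1
    have hs' := hs.prod hs2
    rw [show k + (m - k) = m by omega, ← mul_assoc, show ε * ε = 1 by rcases hε with rfl | rfl <;> rfl, one_mul] at hs'
    obtain ⟨e, he⟩ := hcl (V := (Fin (2 * k) → F) × (Fin (2 * (m - k)) → F)) (by
      rw [Module.finrank_prod, Module.finrank_fin_fun, Module.finrank_fin_fun]; omega) (sumQ Q1 Q2)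
      (sumQ_nondeg hQ1 hQ2) hs'
    refine exists_E Q hG h5 (⇑(sumQ Q1 Q2)) e he (g.prodMap (1 : Module.End F (Fin (2 * (m - k)) → F))) ?_ hN ?_
      (LinearMap.inl F _ _) LinearMap.inl_injective g ?_ ?_ hev (by rw [Module.finrank_fin_fun])
    · intro v
      rw [sumQ_apply, sumQ_apply, LinearMap.prodMap_apply, hg]
      rfl
    · rw [prodMap_pow', hgN, one_pow]
      rfl
    · intro w
      simp
    · intro x
      refine ⟨g x.1 - x.1, ?_⟩
      simp [LinearMap.prodMap_apply, Prod.ext_iff]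
  · obtain ⟨e, he⟩ := hcl (V := Fin (2 * k) → F) (by rw [Module.finrank_fin_fun]) Q1 hQ1 hs
    exact exists_E Q hG h5 (⇑Q1) e he g hg hN hgN LinearMap.id Function.injective_id g (fun _ => rfl)
      (fun x => ⟨g x - x, rfl⟩) hev (by rw [Module.finrank_fin_fun])

end

end Cfsg.Agent.H320.Der
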