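import Cfsg.Agent.H320.Der.TypeI

/-!
# Primes of large weight: counting in a torus (helper320, S3502)
-/

set_option autoImplicit false
set_option linter.unusedSectionVars false

namespace Cfsg.Agent.H320.Der

open Cfsg.Agent.H439.Der Cfsg.Agent.H377 Cfsg.Agent.H72.AdjOrth

universe u

/-! ### numbers -/

theorem count_of {N v k f i : ℕ} (hk : 1 ≤ k) (hv : 2 * k + 1 ≤ v) (h : 2 * i * f * (2 * k + 1) < N) :
    2 * (i * (f * (2 * k))) < N - N / v := by
  have h1 : N / v ≤ N / (2 * k + 1) := Nat.div_le_div_left hv (by omega)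
  set D := 2 * k + 1 with hD
  have h2 := Nat.div_add_mod N D
  set t := N / D with ht
  set r := N % D with hr
  have hrD : r < D := Nat.mod_lt _ (by omega)
  have h3 : 2 * (i * (f * (2 * k))) = 2 * i * f * (2 * k) := by ring
  rw [h3]
  have h4 : t ≤ N := by
    have : t * 1 ≤ D * t := by nlinarith
    omega
  have h5 : 2 * i * f * (2 * k) + t < N := by
    rw [← h2] at h ⊢
    have h6 : D * t = 2 * k * t + t := by rw [hD]; ring
    rw [h6] at h ⊢
    rcases Nat.lt_or_ge (2 * i * f) t with h7 | h7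
    · have h8 : 2 * i * f * (2 * k) ≤ 2 * k * t := by
        rw [mul_comm]
        exact Nat.mul_le_mul_left _ h7.le
      have h9 : 2 * k * (2 * i * f + 1) ≤ 2 * k * t := Nat.mul_le_mul_left _ h7
      have h10 : 2 * k * (2 * i * f + 1) = 2 * i * f * (2 * k) + 2 * k := by ring
      omega
    · have h8 : 2 * k * t ≤ 2 * k * (2 * i * f) := Nat.mul_le_mul_left _ h7
      have h9 : 2 * i * f * D = 2 * i * f * (2 * k) + 2 * i * f := by rw [hD]; ring
      have h10 : 2 * k * (2 * i * f) = 2 * i * f * (2 * k) := by ring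
      rcases Nat.eq_or_lt_of_le h7 with h11 | h11
      · rw [h11] at h ⊢
        omega
      · exfalso
        have h12 : 2 * k * (t + 1) ≤ 2 * k * (2 * i * f) := Nat.mul_le_mul_left _ h11
        have h13 : 2 * k * (t + 1) = 2 * k * t + 2 * k := by ring
        omega
  omega

theorem two_eta_lt {q v : ℕ} (hv : v.Prime) (hv2 : v ≠ 2) (hvq : ¬ v ∣ q) : 2 * eta (ee q v) + 1 ≤ v := by
  have : Fact v.Prime := ⟨hv⟩
  have h0 : (q : ZMod v) ≠ 0 := by
    intro h1
    exact hvq ((ZMod.natCast_eq_zero_iff q v).1 h1)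
  have h1 : ee q v ∣ v - 1 := by
    rw [ee]
    exact orderOf_dvd_of_pow_eq_one (ZMod.pow_card_sub_one_eq_one h0)
  have hv3 : 3 ≤ v := by
    have := hv.two_le
    omega
  have hodd := hv.odd_of_ne_two hv2
  rw [eta]
  split_ifs with h
  · have := Nat.le_of_dvd (by omega) h1
    obtain ⟨j, hj⟩ := h
    omega
  · rw [Nat.not_even_iff_odd] at h
    have h2 : 2 ∣ v - 1 := by
      obtain ⟨j, hj⟩ := hodd
      exact ⟨j, by omega⟩
    have h3 : Nat.Coprime 2 (ee q v) := Nat.coprime_two_left.2 h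
    have h4 := Nat.le_of_dvd (by omega) (h3.mul_dvd_of_dvd_of_dvd h2 h1)
    omega

/-- `N` for odd `k`, plus type -/
theorem geom_odd {q k : ℕ} (hq : Odd q) (hk : Odd k) : ∃ N, (q - 1) * N = q ^ k - 1 ∧ Odd N := by
  refine ⟨∑ j ∈ Finset.range k, q ^ j, ?_, ?_⟩
  · rw [mul_comm]
    have h2 : (∑ j ∈ Finset.range k, q ^ j) * (q - 1) + 1 = q ^ k := by
      obtain ⟨t, rfl⟩ := Nat.exists_eq_add_of_le hq.pos
      rw [Nat.add_sub_cancel_left]
      have h3 := geom_sum_mul_add t k
      rw [add_comm t 1] at h3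
      exact h3
    omega
  · rw [Finset.odd_sum_iff_odd_card_odd]
    have h1 : (Finset.range k).filter (fun j => Odd (q ^ j)) = Finset.range k := by
      rw [Finset.filter_eq_self]
      intro j _
      exact hq.pow
    rw [h1, Finset.card_range]
    exact hk

/-- `N` for odd `k`, minus type -/
theorem geom_alt {q k : ℕ} (hq : Odd q) (hk : Odd k) : ∃ N, (q + 1) * N = q ^ k + 1 ∧ Odd N := by
  obtain ⟨N, hN⟩ := hk.nat_add_dvd_pow_add_pow q 1
  rw [one_pow] at hN
  refine ⟨N, hN.symm, ?_⟩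
  -- induction
  obtain ⟨j, rfl⟩ := hk
  induction j generalizing N with
  | zero =>
    rw [mul_zero, zero_add, pow_one] at hN
    have : N = 1 := by
      have h1 : (q + 1) * 1 = (q + 1) * N := by rw [mul_one]; exact hN
      exact (Nat.eq_of_mul_eq_mul_left (Nat.succ_pos q) h1).symm
    rw [this]
    exact odd_one
  | succ j ih =>
    have hk : Odd (2 * j + 1) := ⟨j, rfl⟩
    obtain ⟨M, hM⟩ := hk.nat_add_dvd_pow_add_pow q 1
    rw [one_pow] at hM
    have hMo := ih M hM
    -- `q^(2j+3) + 1 = q^2 (q^(2j+1) + 1) - (q^2 - 1)`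
    have h1 : (q + 1) * N + (q + 1) * (q - 1) = (q + 1) * (q ^ 2 * M) := by
      rw [← hN]
      have h2 : (q + 1) * (q ^ 2 * M) = q ^ 2 * ((q + 1) * M) := by ring
      rw [h2, ← hM]
      have h3 : (q + 1) * (q - 1) + 1 = q ^ 2 := by
        obtain ⟨t, rfl⟩ := Nat.exists_eq_add_of_le hq.pos
        rw [Nat.add_sub_cancel_left]
        ring
      have h4 : q ^ (2 * (j + 1) + 1) = q ^ 2 * q ^ (2 * j + 1) := by rw [← pow_add]; congr 1; ring
      rw [h4]
      nlinarith
    rw [← mul_add] at h1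
    have h2 := Nat.eq_of_mul_eq_mul_left (Nat.succ_pos q) h1
    have h3 : Odd (N + (q - 1)) := by
      rw [h2]
      exact (hq.pow).mul hMo
    have h4 : Even (q - 1) := by
      obtain ⟨t, rfl⟩ := hq
      exact ⟨t, by omega⟩
    exact (Nat.odd_add.1 h3).2 h4

theorem three_pow_ge (f : ℕ) : 2 * f + 1 ≤ 3 ^ f := by
  induction f with
  | zero => norm_num
  | succ f ih => rw [pow_succ]; omega

theorem two_pow_ge {f : ℕ} (hf : 2 ≤ f) : 2 * f ≤ 2 ^ f := by
  induction f, hf using Nat.le_induction with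
  | base => norm_num
  | succ f hf ih => rw [pow_succ]; omega

theorem pow_ge_lin {q c k : ℕ} (hq : 3 ≤ q) (hc : 3 ≤ c) (hk : c ≤ k) (h : 2 * c + 1 ≤ q ^ (c - 2)) :
    2 * k + 1 ≤ q ^ (k - 2) := by
  induction k, hk using Nat.le_induction with
  | base => exact h
  | succ k hk ih =>
    rw [show k + 1 - 2 = (k - 2) + 1 by omega, pow_succ]
    nlinarith

/-- `k` odd, `q ≥ 5` odd or `k ≥ 5` -/
theorem num_odd {q f k N : ℕ} (h3 : 3 ^ f ≤ q) (hq : 3 ≤ q) (hk3 : 3 ≤ k) (h33 : ¬ (q = 3 ∧ k = 3)) (h34 : ¬ (q = 3 ∧ k = 4))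
    (hq4 : q ≠ 4) (hq6 : q ≠ 6) (hN : q ^ k + 1 ≤ (q + 1) * N) : 2 * 1 * f * (2 * k + 1) < N := by
  have hf := three_pow_ge f
  have key : 2 * f * (2 * k + 1) * (q + 1) < q ^ k + 1 := by
    rcases Nat.lt_or_ge q 7 with h7 | h7
    · have h35 : q = 3 ∨ q = 5 := by omega
      rcases h35 with rfl | rfl
      · have hf1 : f ≤ 1 := by
          by_contra hlt
          push Not at hlt
          have : 3 ^ 2 ≤ 3 ^ f := Nat.pow_le_pow_right (by norm_num) hlt
          omega
        have hk5 : 5 ≤ k := by omega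
        have h1 : 8 * (2 * k + 1) < 3 ^ k := by
          clear * - hk5
          induction k, hk5 using Nat.le_induction with
          | base => norm_num
          | succ k hk ih => rw [pow_succ]; omega
        have h2 : 2 * f * (2 * k + 1) * (3 + 1) ≤ 8 * (2 * k + 1) := by nlinarith
        omega
      · have hf1 : f ≤ 1 := by
          by_contra hlt
          push Not at hlt
          have : 3 ^ 2 ≤ 3 ^ f := Nat.pow_le_pow_right (by norm_num) hlt
          omega
        have h1 : 12 * (2 * k + 1) < 5 ^ k := by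
          clear * - hk3
          induction k, hk3 using Nat.le_induction with
          | base => norm_num
          | succ k hk ih => rw [pow_succ]; omega
        have h2 : 2 * f * (2 * k + 1) * (5 + 1) ≤ 12 * (2 * k + 1) := by nlinarith
        omega
    · have h1 := pow_ge_lin (q := q) (c := 3) (k := k) (by omega) le_rfl hk3 (by norm_num; omega)
      have h2 : q ^ k = q ^ (k - 2) * q ^ 2 := by rw [← pow_add]; congr 1; omega
      have h3 : 2 * f * (2 * k + 1) * (q + 1) ≤ (q - 1) * (2 * k + 1) * (q + 1) := by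
        refine Nat.mul_le_mul_right _ (Nat.mul_le_mul_right _ ?_)
        omega
      have h4 : (q - 1) * (2 * k + 1) * (q + 1) ≤ q ^ (k - 2) * q ^ 2 := by
        have h5 : (q - 1) * (q + 1) ≤ q ^ 2 := by
          obtain ⟨t, rfl⟩ := Nat.exists_eq_add_of_le (show 1 ≤ q by omega)
          rw [Nat.add_sub_cancel_left]
          nlinarith
        calc (q - 1) * (2 * k + 1) * (q + 1) = (2 * k + 1) * ((q - 1) * (q + 1)) := by ring
          _ ≤ _ := Nat.mul_le_mul h1 h5
      rw [h2]
      omega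
  have h1 : (q + 1) * (2 * 1 * f * (2 * k + 1)) < (q + 1) * N := by
    calc (q + 1) * (2 * 1 * f * (2 * k + 1)) = 2 * f * (2 * k + 1) * (q + 1) := by ring
      _ < q ^ k + 1 := key
      _ ≤ _ := hN
  exact lt_of_mul_lt_mul_left h1 (Nat.zero_le _)

theorem num_even {q f k N : ℕ} (h3 : 3 ^ f ≤ q) (hq : 3 ≤ q) (hk3 : 4 ≤ k) (hN : q ^ k + 1 ≤ 2 * N) :
    2 * 1 * f * (2 * k + 1) < N := by
  have hf := three_pow_ge f
  have key : 4 * f * (2 * k + 1) < q ^ k := by
    have h1 : 4 * f * (2 * k + 1) ≤ 2 * (q - 1) * (2 * k + 1) := Nat.mul_le_mul_right _ (by omega)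
    have h2 : 2 * (q - 1) * (2 * k + 1) < q ^ k := by
      obtain ⟨t, rfl⟩ := Nat.exists_eq_add_of_le hq
      have h4 : ∀ k, 4 ≤ k → 2 * (2 * k + 1) < (3 + t) ^ (k - 1) := by
        intro k hk
        induction k, hk using Nat.le_induction with
        | base =>
          norm_num
          have : 3 ^ 3 ≤ (3 + t) ^ 3 := Nat.pow_le_pow_left (by omega) 3
          omega
        | succ k hk ih =>
          rw [show k + 1 - 1 = (k - 1) + 1 by omega, pow_succ]
          nlinarith
      have h5 := h4 k hk3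
      have h6 : (3 + t) ^ k = (3 + t) ^ (k - 1) * (3 + t) := by rw [← pow_succ]; congr 1; omega
      rw [h6, show 3 + t - 1 = 2 + t by omega]
      nlinarith
    omega
  have h1 : 2 * (2 * 1 * f * (2 * k + 1)) = 4 * f * (2 * k + 1) := by ring
  omega

theorem num_two {f k N : ℕ} (hf : 1 ≤ f) (hk3 : 3 ≤ k) (h1 : ¬ (f = 1 ∧ k ≤ 4)) (hN : (2 ^ f) ^ k ≤ N + 1) :
    2 * 1 * f * (2 * k + 1) < N := by
  rcases Nat.eq_or_lt_of_le hf with rfl | hf2
  · have hk5 : 5 ≤ k := by omega
    have h2 : 2 * (2 * k + 1) + 2 < 2 ^ k := by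
      clear * - hk5
      induction k, hk5 using Nat.le_induction with
      | base => norm_num
      | succ k hk ih => rw [pow_succ]; omega
    rw [pow_one] at hN
    omega
  · have hq := two_pow_ge (show 2 ≤ f by omega)
    have hq4 : 4 ≤ 2 ^ f := by
      calc 4 = 2 ^ 2 := rfl
        _ ≤ 2 ^ f := Nat.pow_le_pow_right (by norm_num) (by omega)
    set q := 2 ^ f with hqd
    have h2 : ∀ k, 3 ≤ k → 2 * k + 2 ≤ q ^ (k - 1) := by
      intro k hk
      induction k, hk using Nat.le_induction with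
      | base =>
        norm_num
        nlinarith
      | succ k hk ih =>
        rw [show k + 1 - 1 = (k - 1) + 1 by omega, pow_succ]
        nlinarith
    have h3 := h2 k hk3
    have h4 : q ^ k = q ^ (k - 1) * q := by rw [← pow_succ]; congr 1; omega
    rw [h4] at hN
    have h5 : (2 * k + 2) * q ≤ q ^ (k - 1) * q := Nat.mul_le_mul_right _ h3
    have h6 : 2 * 1 * f * (2 * k + 1) ≤ q * (2 * k + 1) := Nat.mul_le_mul_right _ (by omega)
    nlinarith

section exN

variable {p f q v : ℕ}

theorem not_dvd_sub_one {e : ℕ} (hq : 2 ≤ q) (he : ee q v = e) (h : 3 ≤ e) : ¬ v ∣ q - 1 := by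
  intro h1
  have h2 : ee q v ∣ 1 := ee_dvd (by omega) (by rwa [pow_one])
  rw [he] at h2
  have := Nat.le_of_dvd one_pos h2
  omega

theorem not_dvd_add_one {e : ℕ} (hq : 2 ≤ q) (he : ee q v = e) (h : 3 ≤ e) : ¬ v ∣ q + 1 := by
  intro h1
  have h3 : v ∣ q ^ 2 - 1 := by
    have := Nat.sq_sub_sq q 1
    rw [one_pow] at this
    rw [this]
    exact h1.mul_right _
  have h2 : ee q v ∣ 2 := ee_dvd (by omega) h3
  rw [he] at h2
  have := Nat.le_of_dvd two_pos h2
  omega

/-- the numbers `N` -/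
theorem exists_N (hp : p.Prime) (hf : 1 ≤ f) (hq : q = p ^ f) (hv : v.Prime) (hvq : ¬ v ∣ q)
    (hk : 3 ≤ eta (ee q v)) :
    ∃ N, Odd N ∧ N ∣ tn q (ee q v) ∧ v ∣ N ∧
      (p = 2 → q ^ eta (ee q v) ≤ N + 1) ∧
      (p ≠ 2 → Odd (ee q v) → (q - 1) * N = q ^ eta (ee q v) - 1) ∧
      (p ≠ 2 → Even (ee q v) → Odd (eta (ee q v)) → (q + 1) * N = q ^ eta (ee q v) + 1) ∧
      (p ≠ 2 → Even (ee q v) → Even (eta (ee q v)) → q ^ eta (ee q v) + 1 = 2 * N) := by
  have hq2 : 2 ≤ q := by
    rw [hq]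
    calc 2 ≤ p := hp.two_le
      _ = p ^ 1 := (pow_one p).symm
      _ ≤ p ^ f := Nat.pow_le_pow_right hp.pos hf
  have hvt := dvd_tn (q := q) (by omega) hv hvq
  have hek : eta (ee q v) ≤ ee q v := by
    rw [eta]
    split_ifs
    · omega
    · exact le_rfl
  by_cases hp2 : p = 2
  · refine ⟨tn q (ee q v), ?_, dvd_rfl, hvt, fun _ => ?_, fun h => absurd hp2 h, fun h => absurd hp2 h,
      fun h => absurd hp2 h⟩
    · have he : Even q := by
        rw [hq, hp2]
        exact (Nat.even_pow.2 ⟨even_two, by omega⟩)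
      rw [tn]
      split_ifs with h
      · exact (he.pow_of_ne_zero (by rw [eta, if_pos h] at hk; omega)).add_one
      · have h1 : Even (q ^ ee q v) := he.pow_of_ne_zero (by omega)
        have h2 : 1 ≤ q ^ ee q v := Nat.one_le_pow _ _ (by omega)
        exact Nat.Even.sub_odd h2 h1 odd_one
    · rw [tn, eta]
      split_ifs with h
      · omega
      · have h2 : 1 ≤ q ^ ee q v := Nat.one_le_pow _ _ (by omega)
        omega
  · have hqo : Odd q := by
      rw [hq]
      exact (hp.odd_of_ne_two hp2).pow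
    rcases Nat.even_or_odd (ee q v) with he | ho
    · rw [tn, if_pos he] at hvt ⊢
      have hη : eta (ee q v) = ee q v / 2 := by rw [eta, if_pos he]
      rcases Nat.even_or_odd (eta (ee q v)) with hke | hko
      · -- `k` even
        obtain ⟨j, hj⟩ := hke
        have h1 : ∃ N, q ^ (ee q v / 2) + 1 = 2 * N ∧ Odd N := by
          rw [← hη, hj, pow_add]
          obtain ⟨t, ht⟩ := (hqo.pow (n := j))
          refine ⟨2 * (t ^ 2 + t) + 1, ?_, ⟨_, rfl⟩⟩
          rw [ht]
          ring
        obtain ⟨N, hN, hNo⟩ := h1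
        refine ⟨N, hNo, by rw [hN]; exact dvd_mul_left _ _, ?_, fun h => absurd h hp2, fun _ h => ?_, fun _ _ h => ?_,
          fun _ _ _ => by rw [hη, hN]⟩
        · rw [hN] at hvt
          rcases (Nat.Prime.dvd_mul hv).1 hvt with h | h
          · exfalso
            have hv2 : v = 2 := (Nat.prime_dvd_prime_iff_eq hv Nat.prime_two).1 h
            have := two_dvd_or hqo hv2 hk
            exact this
          · exact h
        · exact absurd he (Nat.not_even_iff_odd.2 h)
        · rw [hj] at h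
          exact absurd ⟨j, rfl⟩ (Nat.not_even_iff_odd.2 h)
      · obtain ⟨N, hN, hNo⟩ := geom_alt hqo (hη ▸ hko)
        refine ⟨N, hNo, by rw [← hN]; exact dvd_mul_left _ _, ?_, fun h => absurd h hp2, fun _ h => ?_,
          fun _ _ _ => by rw [hη, hN], fun _ _ h => ?_⟩
        · rw [← hN] at hvt
          exact ((Nat.Prime.dvd_mul hv).1 hvt).resolve_left (not_dvd_add_one hq2 rfl (by omega))
        · exact absurd he (Nat.not_even_iff_odd.2 h)
        · exact absurd h (Nat.not_even_iff_odd.2 hko)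
    · rw [tn, if_neg (Nat.not_even_iff_odd.2 ho)] at hvt ⊢
      have hη : eta (ee q v) = ee q v := by rw [eta, if_neg (Nat.not_even_iff_odd.2 ho)]
      obtain ⟨N, hN, hNo⟩ := geom_odd hqo ho
      refine ⟨N, hNo, by rw [← hN]; exact dvd_mul_left _ _, ?_, fun h => absurd h hp2, fun _ _ => by rw [hη, hN],
        fun _ h => absurd h (Nat.not_even_iff_odd.2 ho), fun _ h => absurd h (Nat.not_even_iff_odd.2 ho)⟩
      rw [← hN] at hvt
      exact ((Nat.Prime.dvd_mul hv).1 hvt).resolve_left (not_dvd_sub_one hq2 rfl (by omega))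
where
  two_dvd_or {q v : ℕ} (hqo : Odd q) (hv2 : v = 2) (hk : 3 ≤ eta (ee q v)) : False := by
    subst hv2
    obtain ⟨t, ht⟩ := hqo
    have h1 : ee q 2 ∣ 1 := ee_dvd (by omega) (by
      rw [pow_one, ht]
      exact ⟨t, by omega⟩)
    have h2 : ee q 2 = 1 := Nat.dvd_one.1 h1
    rw [h2] at hk
    revert hk
    decide

theorem exists_N1 (hp : p.Prime) (hf : 1 ≤ f) (hq : q = p ^ f) (hv : v.Prime) (hvq : ¬ v ∣ q)
    (hk : 3 ≤ eta (ee q v)) (h1 : ¬ (q = 2 ∧ eta (ee q v) ≤ 4)) (h3 : ¬ (q = 3 ∧ eta (ee q v) = 3)) :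
    ∃ N, Odd N ∧ N ∣ tn q (ee q v) ∧ v ∣ N ∧ 2 * 1 * f * (2 * eta (ee q v) + 1) < N := by
  obtain ⟨N, hN, hNt, hvN, e1, e2, e3, e4⟩ := exists_N hp hf hq hv hvq hk
  refine ⟨N, hN, hNt, hvN, ?_⟩
  by_cases hp2 : p = 2
  · subst hp2
    refine num_two (k := eta (ee q v)) hf hk ?_ (by rw [← hq]; exact e1 rfl)
    rintro ⟨rfl, h6⟩
    exact h1 ⟨by rw [hq, pow_one], h6⟩
  · have hp3 : 3 ≤ p := by
      have := hp.two_le
      omega
    have hq3 : 3 ^ f ≤ q := by rw [hq]; exact Nat.pow_le_pow_left hp3 f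
    have hq33 : 3 ≤ q := by
      calc 3 = 3 ^ 1 := rfl
        _ ≤ 3 ^ f := Nat.pow_le_pow_right (by norm_num) hf
        _ ≤ q := hq3
    have hqo : Odd q := by
      rw [hq]
      exact (hp.odd_of_ne_two hp2).pow
    rcases Nat.even_or_odd (ee q v) with he | ho
    · rcases Nat.even_or_odd (eta (ee q v)) with hke | hko
      · have h5 := e4 hp2 he hke
        refine num_even hq3 hq33 ?_ h5.le
        obtain ⟨j, hj⟩ := hke
        omega
      · refine num_odd hq3 hq33 hk h3 ?_ ?_ ?_ (e3 hp2 he hko).symm.le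
        · rintro ⟨-, h⟩
          rw [h] at hko
          exact absurd hko (by decide)
        · rintro rfl
          exact absurd hqo (by decide)
        · rintro rfl
          exact absurd hqo (by decide)
    · have h5 := e2 hp2 ho
      have hη : eta (ee q v) = ee q v := by rw [eta, if_neg (Nat.not_even_iff_odd.2 ho)]
      refine num_odd hq3 hq33 hk h3 ?_ ?_ ?_ ?_
      · rintro ⟨-, h⟩
        rw [← hη, h] at ho
        exact absurd ho (by decide)
      · rintro rfl
        exact absurd hqo (by decide)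
      · rintro rfl
        exact absurd hqo (by decide)
      · have h6 : 1 ≤ q ^ eta (ee q v) := Nat.one_le_pow _ _ (by omega)
        have h7 : (q + 1) * N = (q - 1) * N + 2 * N := by
          obtain ⟨t, rfl⟩ := Nat.exists_eq_add_of_le (show 1 ≤ q by omega)
          rw [Nat.add_sub_cancel_left]
          ring
        rw [h7, h5]
        have h8 : 1 ≤ N := hN.pos
        omega

theorem exists_N3 (hp : p.Prime) (hf : 1 ≤ f) (hq : q = p ^ f) (hv : v.Prime) (hvq : ¬ v ∣ q)
    (hk : eta (ee q v) = 3) (h7 : 7 ≤ q) (h9 : ¬ (q = 9 ∧ Even (ee q v))) :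
    ∃ N, Odd N ∧ N ∣ tn q (ee q v) ∧ v ∣ N ∧ 2 * 3 * f * (2 * eta (ee q v) + 1) < N := by
  obtain ⟨N, hN, hNt, hvN, e1, e2, e3, -⟩ := exists_N hp hf hq hv hvq hk.ge
  refine ⟨N, hN, hNt, hvN, ?_⟩
  rw [hk] at e1 e2 e3 ⊢
  by_cases hp2 : p = 2
  · have h5 := e1 hp2
    subst hp2
    have hf3 : 3 ≤ f := by
      by_contra hlt
      have : f = 1 ∨ f = 2 := by omega
      rcases this with rfl | rfl <;> norm_num at hq <;> omega
    have h6 := two_pow_ge (show 2 ≤ f by omega)
    rw [← hq] at h6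
    have h8 : 8 ≤ q := by
      rw [hq]
      calc 8 = 2 ^ 3 := rfl
        _ ≤ 2 ^ f := Nat.pow_le_pow_right (by norm_num) hf3
    have h9 : 64 * q ≤ q ^ 3 := by
      have : q ^ 3 = q ^ 2 * q := by ring
      rw [this]
      exact Nat.mul_le_mul_right _ (by nlinarith)
    omega
  · have hp3 : 3 ≤ p := by
      have := hp.two_le
      omega
    have hq3 : 3 ^ f ≤ q := by rw [hq]; exact Nat.pow_le_pow_left hp3 f
    have hf2 := three_pow_ge f
    have hqo : Odd q := by
      rw [hq]
      exact (hp.odd_of_ne_two hp2).pow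
    have key : q ≠ 9 → 42 * f < q ^ 2 - q + 1 := by
      intro h9'
      rcases Nat.lt_or_ge q 21 with hlt | hge
      · have hf2' : f ≤ 2 := by
          by_contra hc
          push Not at hc
          have : 3 ^ 3 ≤ 3 ^ f := Nat.pow_le_pow_right (by norm_num) hc
          omega
        rcases Nat.lt_or_ge q 11 with h11 | h11
        · have : q = 7 := by
            obtain ⟨j, hj⟩ := hqo
            omega
          subst this
          have hf1 : f ≤ 1 := by
            by_contra hc
            push Not at hc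
            have : 3 ^ 2 ≤ 3 ^ f := Nat.pow_le_pow_right (by norm_num) hc
            omega
          omega
        · have : 11 * q ≤ q ^ 2 := by nlinarith
          omega
      · have h22 : 21 * (q - 1) ≤ q ^ 2 - q := by
          obtain ⟨t, rfl⟩ := Nat.exists_eq_add_of_le hge
          rw [show (21 + t) ^ 2 = (21 + t) * (20 + t) + (21 + t) by ring, Nat.add_sub_cancel,
            show 21 + t - 1 = 20 + t by omega]
          exact Nat.mul_le_mul_right _ (by omega)
        omega
    have hsq : q ≤ q ^ 2 := by nlinarith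
    rcases Nat.even_or_odd (ee q v) with he | ho
    · have h10 := e3 hp2 he (by decide)
      have h11 : (q + 1) * (q ^ 2 - q + 1) = q ^ 3 + 1 := by
        obtain ⟨t, ht⟩ := Nat.exists_eq_add_of_le hsq
        rw [ht, Nat.add_sub_cancel_left]
        have : q ^ 3 = q * (q + t) := by rw [← ht]; ring
        rw [this]
        have h12 : q * q = q + t := by rw [← ht]; ring
        nlinarith
      have h12 : N = q ^ 2 - q + 1 := Nat.eq_of_mul_eq_mul_left (Nat.succ_pos q) (h10.trans h11.symm)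
      have := key (fun h => h9 ⟨h, he⟩)
      omega
    · have h10 := e2 hp2 ho
      have h11 : (q - 1) * (q ^ 2 + q + 1) = q ^ 3 - 1 := by
        obtain ⟨t, rfl⟩ := Nat.exists_eq_add_of_le (show 1 ≤ q by omega)
        rw [Nat.add_sub_cancel_left]
        have : (1 + t) ^ 3 = t * ((1 + t) ^ 2 + (1 + t) + 1) + 1 := by ring
        rw [this, Nat.add_sub_cancel]
      have h12 : N = q ^ 2 + q + 1 := Nat.eq_of_mul_eq_mul_left (show 0 < q - 1 by omega) (h10.trans h11.symm)
      by_cases h9' : q = 9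
      · subst h9'
        have hf2' : f ≤ 2 := by
          by_contra hc
          push Not at hc
          have : 3 ^ 3 ≤ 3 ^ f := Nat.pow_le_pow_right (by norm_num) hc
          omega
        omega
      · have := key h9'
        omega

end exN

end Cfsg.Agent.H320.Der
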