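import Cfsg.Agent.H320.Der.Cnt

/-!
# Primes of small weight: three element orders (helper320, S3502)
-/

set_option autoImplicit false
set_option linter.unusedSectionVars false

namespace Cfsg.Agent.H320.Der

open Cfsg.Agent.H439.Der Cfsg.Agent.H377 Cfsg.Agent.H72.AdjOrth

universe u

/-! ### primes -/

theorem exists_w4 {q : ℕ} (hq : 2 ≤ q) : ∃ w : ℕ, w.Prime ∧ w ≠ 2 ∧ w ∣ q ^ 2 + 1 := by
  obtain ⟨k, m, hm, h⟩ := Nat.exists_eq_two_pow_mul_odd (n := q ^ 2 + 1) (by omega)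
  have hq4 : 4 ≤ q ^ 2 := by nlinarith
  have hmod : (q ^ 2 + 1) % 4 = 1 ∨ (q ^ 2 + 1) % 4 = 2 := by
    rcases Nat.even_or_odd' q with ⟨j, rfl | rfl⟩
    · left
      rw [show (2 * j) ^ 2 + 1 = 4 * (j ^ 2) + 1 by ring]
      omega
    · right
      rw [show (2 * j + 1) ^ 2 + 1 = 4 * (j ^ 2 + j) + 2 by ring]
      omega
  have hm1 : m ≠ 1 := by
    rintro rfl
    rw [mul_one] at h
    have hk : 2 ≤ k := by
      by_contra hlt
      have : k = 0 ∨ k = 1 := by omega
      rcases this with rfl | rfl <;> omega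
    obtain ⟨j, rfl⟩ := Nat.exists_eq_add_of_le hk
    rw [h, pow_add] at hmod
    omega
  refine ⟨m.minFac, Nat.minFac_prime hm1, ?_, ?_⟩
  · intro h2
    have h3 := Nat.minFac_dvd m
    rw [h2] at h3
    obtain ⟨j, hj⟩ := hm
    omega
  · rw [h]
    exact (Nat.minFac_dvd m).mul_left _

theorem odd_minFac {m : ℕ} (hm : Odd m) : m.minFac ≠ 2 := by
  intro h2
  have h3 := Nat.minFac_dvd m
  rw [h2] at h3
  obtain ⟨j, hj⟩ := hm
  omega

theorem exists_w1 {q : ℕ} (hq : 2 ≤ q) (h3 : q ≠ 3) : ∃ w : ℕ, w.Prime ∧ w ≠ 2 ∧ w ∣ q ^ 2 - 1 := by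
  rcases Nat.even_or_odd' q with ⟨j, rfl | rfl⟩
  · have h1 : (2 * j) ^ 2 - 1 = 4 * j ^ 2 - 1 := by
      congr 1
      ring
    have hj : 1 ≤ j ^ 2 := Nat.one_le_pow _ _ (by omega)
    have hodd : Odd ((2 * j) ^ 2 - 1) := by
      rw [h1]
      exact ⟨2 * j ^ 2 - 1, by omega⟩
    exact ⟨_, Nat.minFac_prime (by omega), odd_minFac hodd, Nat.minFac_dvd _⟩
  · have h1 : (2 * j + 1) ^ 2 - 1 = 4 * (j * (j + 1)) := by
      rw [show (2 * j + 1) ^ 2 = 4 * (j * (j + 1)) + 1 by ring]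
      omega
    have hj : 2 ≤ j := by omega
    rcases Nat.even_or_odd j with he | ho
    · have ho : Odd (j + 1) := he.add_one
      refine ⟨_, Nat.minFac_prime (by omega : j + 1 ≠ 1), odd_minFac ho, ?_⟩
      rw [h1]
      exact ((Nat.minFac_dvd _).mul_left _).mul_left _
    · refine ⟨_, Nat.minFac_prime (by omega : j ≠ 1), odd_minFac ho, ?_⟩
      rw [h1]
      exact ((Nat.minFac_dvd _).mul_right _).mul_left _

theorem not_both {q v : ℕ} (hv : v.Prime) (h2 : v ≠ 2) (hq : 2 ≤ q) (h : v ∣ q ^ 2 - 1) : ¬ v ∣ q ^ 2 + 1 := by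
  intro h1
  have hq4 : 4 ≤ q ^ 2 := by nlinarith
  have h3 := Nat.dvd_sub h1 h
  rw [show q ^ 2 + 1 - (q ^ 2 - 1) = 2 by omega] at h3
  exact h2 ((Nat.prime_dvd_prime_iff_eq hv Nat.prime_two).1 h3)

section

variable {F : Type u} [Field F] [Fintype F]

/-- an odd prime divisor of `q ^ 2 + 1` -/
theorem elt_w4 {w : ℕ} (h : w ∣ Nat.card F ^ 2 + 1) : Elt F 2 (-1) w := elt_tor_minus (by norm_num) h

/-- an odd prime divisor of `q ^ 2 - 1` -/
theorem elt_w1 {w : ℕ} (hw : w.Prime) (h : w ∣ Nat.card F ^ 2 - 1) : ∃ ε : ℤ, (ε = 1 ∨ ε = -1) ∧ Elt F 1 ε w := by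
  have h1 : Nat.card F ^ 2 - 1 = (Nat.card F + 1) * (Nat.card F - 1) := by
    have := Nat.sq_sub_sq (Nat.card F) 1
    rwa [one_pow] at this
  rw [h1] at h
  rcases (Nat.Prime.dvd_mul hw).1 h with h | h
  · exact ⟨-1, Or.inr rfl, elt_tor_minus le_rfl (by rwa [pow_one])⟩
  · exact ⟨1, Or.inl rfl, elt_tor_plus le_rfl (by rwa [pow_one])⟩

variable {m i : ℕ} {δ : ℤ} {T : Type*} [Group T]

theorem Gp.of_odd (G : Gp F m δ i T) {N : ℕ} (hN : Odd N) (h : Elt F m δ N) : ∃ g : T, orderOf g = N :=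
  G.elt2 N (Elt.two (by have := G.four; omega) hN h)

theorem Gp.of_two_mul (G : Gp F m δ i T) {a s : ℕ} {ε : ℤ} (hs : Odd s) (h : Elt F a ε s) (ha : 1 ≤ a)
    (hε : ε = 1 ∨ ε = -1) (hm : a + 2 ≤ m) : ∃ g : T, orderOf g = 2 * s :=
  G.elt2 _ (elt2_two hs h ha hε G.sign hm)

theorem Gp.of_blk (G : Gp F m δ i T) {a b : ℕ} {ε ε' : ℤ} {r s : ℕ} (h : Elt F a ε r) (h' : Elt F b ε' s)
    (hε : ε = 1 ∨ ε = -1) (hε' : ε' = 1 ∨ ε' = -1) (hm : a + b + 1 ≤ m) (hr : r.Prime) (hs : s.Prime) (hrs : r ≠ s)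
    (hr2 : r ≠ 2) (hs2 : s ≠ 2) : ∃ g : T, orderOf g = r * s :=
  G.of_odd ((hr.odd_of_ne_two hr2).mul (hs.odd_of_ne_two hs2)) (elt_blk h h' hε hε' G.sign hm
    ((Nat.coprime_primes hr hs).2 hrs))

theorem q_ge : 2 ≤ Nat.card F := Finite.one_lt_card

theorem exists_p (F : Type u) [Field F] [Fintype F] : ∃ p : ℕ, p.Prime ∧ CharP F p ∧ p ∣ Nat.card F ∧
    ∀ v : ℕ, v.Prime → v ∣ Nat.card F → v = p := by
  obtain ⟨p, hp⟩ := CharP.exists F
  have hpp : p.Prime := CharP.char_is_prime F p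
  have : Fact p.Prime := ⟨hpp⟩
  obtain ⟨n, -, hn⟩ := FiniteField.card F p
  refine ⟨p, hpp, hp, ?_, fun v hv h => ?_⟩
  · rw [Nat.card_eq_fintype_card, hn]
    exact dvd_pow_self p n.ne_zero
  · rw [Nat.card_eq_fintype_card, hn] at h
    exact (Nat.prime_dvd_prime_iff_eq hv hpp).1 (hv.dvd_of_dvd_pow h)

theorem not_dvd_card_of_w4 {w p : ℕ} (hw : w.Prime) (h : w ∣ Nat.card F ^ 2 + 1) (hp : p ∣ Nat.card F) : w ≠ p := by
  rintro rfl
  have h1 := Nat.dvd_sub h (dvd_pow hp two_ne_zero)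
  rw [show Nat.card F ^ 2 + 1 - Nat.card F ^ 2 = 1 by omega] at h1
  exact hw.one_lt.ne' (Nat.dvd_one.1 h1)

theorem not_dvd_card_of_w1 {w p : ℕ} (hw : w.Prime) (h : w ∣ Nat.card F ^ 2 - 1) (hp : p ∣ Nat.card F) : w ≠ p := by
  rintro rfl
  have hq4 : 4 ≤ Nat.card F ^ 2 := by nlinarith [q_ge (F := F)]
  have h1 := Nat.dvd_sub (dvd_pow hp two_ne_zero) h
  rw [show Nat.card F ^ 2 - (Nat.card F ^ 2 - 1) = 1 by omega] at h1
  exact hw.one_lt.ne' (Nat.dvd_one.1 h1)

/-- the prime two -/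
theorem th_two (G : Gp F m δ i T) (hd : 2 ∣ Nat.card T) : Th T 2 := by
  have := G.fin
  have hm := G.four
  have : Fact (Nat.Prime 2) := ⟨Nat.prime_two⟩
  obtain ⟨w, hw, hw2, hwd⟩ := exists_w4 (q_ge (F := F))
  obtain ⟨p, hp, hpc, hpq, -⟩ := exists_p F
  have key : ∃ s : ℕ, s.Prime ∧ s ≠ 2 ∧ s ≠ w ∧ ∃ g : T, orderOf g = 2 * s := by
    by_cases hp2 : p = 2
    · subst hp2
      have h3 : Nat.card F ≠ 3 := fun h => by rw [h] at hpq; omega
      obtain ⟨s, hs, hs2, hsd⟩ := exists_w1 (q_ge (F := F)) h3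
      refine ⟨s, hs, hs2, ?_, ?_⟩
      · rintro rfl
        exact not_both hs hs2 (q_ge (F := F)) hsd hwd
      · obtain ⟨ε, hε, h⟩ := elt_w1 (F := F) hs hsd
        exact G.of_two_mul (hs.odd_of_ne_two hs2) h le_rfl hε (by omega)
    · refine ⟨p, hp, hp2, (not_dvd_card_of_w4 hw hwd hpq).symm, ?_⟩
      exact G.of_two_mul (hp.odd_of_ne_two hp2) (elt_char hp le_rfl) (by norm_num) (Or.inl rfl) (by omega)
  obtain ⟨s, hs, hs2, hsw, hg⟩ := key
  refine Th.of_orders (a := 2) (b := 2 * w) (c := 2 * s) dvd_rfl (dvd_mul_right _ _) (dvd_mul_right _ _) ?_ ?_ ?_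
    (exists_prime_orderOf_dvd_card' 2 hd)
    (G.of_two_mul (hw.odd_of_ne_two hw2) (elt_w4 hwd) (by norm_num) (Or.inr rfl) (by omega)) hg
  · have := hw.one_lt; omega
  · have := hs.one_lt; omega
  · omega

theorem ne_mul {v w : ℕ} (hv : v.Prime) (hw : w.Prime) : v ≠ v * w := by
  have := hw.one_lt
  have := hv.pos
  nlinarith

theorem ne_two_mul {v : ℕ} (hv : v.Prime) : v ≠ 2 * v := by
  have := hv.pos
  omega

/-- from the orders `v`, `2 v`, `v w` -/
theorem th_of {v w : ℕ} [Finite T] (hv : v.Prime) (hd : v ∣ Nat.card T) (hw : w.Prime) (hw2 : w ≠ 2)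
    (h2 : ∃ g : T, orderOf g = 2 * v) (h3 : ∃ g : T, orderOf g = v * w) : Th T v := by
  have : Fact v.Prime := ⟨hv⟩
  refine Th.of_orders (a := v) (b := 2 * v) (c := v * w) dvd_rfl (dvd_mul_left _ _) (dvd_mul_right _ _)
    (ne_two_mul hv) (ne_mul hv hw) ?_ (exists_prime_orderOf_dvd_card' v hd) h2 h3
  intro h
  rw [mul_comm 2 v] at h
  exact hw2 (Nat.eq_of_mul_eq_mul_left hv.pos h).symm

/-- the characteristic -/
theorem th_char (G : Gp F m δ i T) {p : ℕ} (hp : p.Prime) (hp2 : p ≠ 2) [CharP F p] (hpq : p ∣ Nat.card F)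
    (hd : p ∣ Nat.card T) (hex : ¬ (m = 4 ∧ δ = 1 ∧ Nat.card F = 3)) : Th T p := by
  have := G.fin
  have hm := G.four
  have h2 : ∃ g : T, orderOf g = 2 * p :=
    G.of_two_mul (hp.odd_of_ne_two hp2) (elt_char hp le_rfl) (by norm_num) (Or.inl rfl) (by omega)
  by_cases h3 : Nat.card F = 3
  · obtain ⟨w, hw, hw2, hwd⟩ := exists_w4 (q_ge (F := F))
    have hwp : w ≠ p := not_dvd_card_of_w4 hw hwd hpq
    refine th_of hp hd hw hw2 h2 ?_
    rcases Nat.lt_or_ge m 5 with h5 | h5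
    · obtain rfl : m = 4 := by omega
      have hδ : δ = -1 := by
        rcases G.sign with h | h
        · exact absurd ⟨rfl, h, h3⟩ hex
        · exact h
      subst hδ
      have h4 := (elt_char (F := F) hp le_rfl).prod (elt_w4 hwd)
      rw [one_mul, ((Nat.coprime_primes hp hw).2 hwp.symm).lcm_eq_mul] at h4
      exact G.of_odd ((hp.odd_of_ne_two hp2).mul (hw.odd_of_ne_two hw2)) h4
    · exact G.of_blk (elt_char hp le_rfl) (elt_w4 hwd) (Or.inl rfl) (Or.inr rfl) (by omega) hp hw hwp.symm hp2 hw2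
  · obtain ⟨w, hw, hw2, hwd⟩ := exists_w1 (q_ge (F := F)) h3
    have hwp : w ≠ p := not_dvd_card_of_w1 hw hwd hpq
    obtain ⟨ε, hε, h4⟩ := elt_w1 (F := F) hw hwd
    exact th_of hp hd hw hw2 h2
      (G.of_blk (elt_char hp le_rfl) h4 (Or.inl rfl) hε (by omega) hp hw hwp.symm hp2 hw2)

/-- odd primes prime to `q`, of weight at most `m - 2` -/
theorem th_small (G : Gp F m δ i T) {v : ℕ} (hv : v.Prime) (hv2 : v ≠ 2) (hvq : ¬ v ∣ Nat.card F)
    (hd : v ∣ Nat.card T) (hη : eta (ee (Nat.card F) v) + 2 ≤ m) (hex : ¬ (m = 4 ∧ δ = 1 ∧ Nat.card F = 3)) :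
    Th T v := by
  have := G.fin
  have hm := G.four
  have hq := q_ge (F := F)
  set e := ee (Nat.card F) v with he
  have he1 : 1 ≤ e := ee_pos hv hvq
  have h1 : Elt F (eta e) (sg e) v := elt_of_prime hv hvq
  have hη1 : 1 ≤ eta e := eta_pos he1
  have h2 : ∃ g : T, orderOf g = 2 * v := G.of_two_mul (hv.odd_of_ne_two hv2) h1 hη1 (sg_pm _) hη
  have hvd := dvd_pow_ee (q := Nat.card F) (r := v) (by omega)
  rw [← he] at hvd
  obtain ⟨w, hw, hw2, hwd⟩ := exists_w4 (q_ge (F := F))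
  by_cases hη2 : eta e = 1
  · -- `v` divides `q ^ 2 - 1`
    have he2 : e = 1 ∨ e = 2 := by
      rw [eta] at hη2
      split_ifs at hη2 with h
      · obtain ⟨j, hj⟩ := h
        omega
      · exact Or.inl hη2
    have hv1 : v ∣ Nat.card F ^ 2 - 1 := by
      rcases he2 with h | h
      · rw [h, pow_one] at hvd
        have := Nat.sq_sub_sq (Nat.card F) 1
        rw [one_pow] at this
        rw [this]
        exact hvd.mul_left _
      · rwa [h] at hvd
    have hvw : v ≠ w := by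
      rintro rfl
      exact not_both hv hv2 hq hv1 hwd
    exact th_of hv hd hw hw2 h2 (G.of_blk h1 (elt_w4 hwd) (sg_pm _) (Or.inr rfl) (by omega) hv hw hvw hv2 hw2)
  · by_cases h3 : Nat.card F = 3
    · have hchar : CharP F 3 := by
        obtain ⟨p, hp, hpc, hpq, -⟩ := exists_p F
        rw [h3] at hpq
        rwa [(Nat.prime_dvd_prime_iff_eq hp Nat.prime_three).1 hpq] at hpc
      have hv3 : v ≠ 3 := by
        rintro rfl
        exact hvq (by rw [h3])
      rcases Nat.lt_or_ge (eta e + 2) m with hlt | hge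
      · exact th_of hv hd Nat.prime_three (by norm_num) h2 (G.of_blk h1 (elt_char Nat.prime_three le_rfl) (sg_pm _)
          (Or.inl rfl) (by omega) hv Nat.prime_three hv3 hv2 (by norm_num))
      · have hm' : eta e + 2 = m := by omega
        by_cases hs : sg e = δ
        · have h4 := h1.prod (elt_char (F := F) Nat.prime_three (n := 2) le_rfl)
          rw [mul_one, hm', hs, ((Nat.coprime_primes hv Nat.prime_three).2 hv3).lcm_eq_mul] at h4
          exact th_of hv hd Nat.prime_three (by norm_num) h2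
            (G.of_odd ((hv.odd_of_ne_two hv2).mul (Nat.prime_three.odd_of_ne_two (by norm_num))) h4)
        · have hs' : sg e * -1 = δ := by
            rcases sg_pm e with h5 | h5 <;> rcases G.sign with h6 | h6 <;> rw [h5] at hs ⊢ <;> rw [h6] at hs ⊢ <;>
              simp at hs ⊢
          have hvw : v ≠ w := by
            rintro rfl
            -- `v = 5`, `e = 4`
            have hv5 : v = 5 := by
              rw [h3] at hwd
              have h6 : (v : ℕ) ∣ 2 * 5 := hwd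
              rcases (Nat.Prime.dvd_mul hv).1 h6 with h7 | h7
              · exact absurd ((Nat.prime_dvd_prime_iff_eq hv Nat.prime_two).1 h7) hv2
              · exact (Nat.prime_dvd_prime_iff_eq hv Nat.prime_five).1 h7
            have h6 : e ∣ 4 := by
              refine ee_dvd (by omega) ?_
              rw [hv5, h3]
              norm_num
            have h7 : e = 4 := by
              have h8 : e ∈ Nat.divisors 4 := by
                rw [Nat.mem_divisors]
                exact ⟨h6, by norm_num⟩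
              have h9 : Nat.divisors 4 = {1, 2, 4} := by decide
              rw [h9] at h8
              simp only [Finset.mem_insert, Finset.mem_singleton] at h8
              rcases h8 with h8 | h8 | h8
              · rw [h8] at hη2
                exact absurd (by decide) hη2
              · rw [h8] at hη2
                exact absurd (by decide) hη2
              · exact h8
            have h10 : eta 4 = 2 := by decide
            have h11 : sg 4 = -1 := by decide
            rw [h7, h10] at hm'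
            rw [h7, h11] at hs'
            exact hex ⟨by omega, by rw [← hs']; norm_num, h3⟩
          have h4 := h1.prod (elt_w4 hwd)
          rw [hm', hs', ((Nat.coprime_primes hv hw).2 hvw).lcm_eq_mul] at h4
          exact th_of hv hd hw hw2 h2 (G.of_odd ((hv.odd_of_ne_two hv2).mul (hw.odd_of_ne_two hw2)) h4)
    · obtain ⟨w', hw', hw2', hwd'⟩ := exists_w1 (q_ge (F := F)) h3
      have hvw : v ≠ w' := by
        rintro rfl
        have h6 : e ∣ 2 := ee_dvd (by omega) hwd'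
        have h7 := Nat.le_of_dvd (by norm_num) h6
        have h8 : e = 1 ∨ e = 2 := by omega
        rcases h8 with h8 | h8
        · rw [h8] at hη2
          exact absurd (by decide) hη2
        · rw [h8] at hη2
          exact absurd (by decide) hη2
      obtain ⟨ε, hε, h4⟩ := elt_w1 (F := F) hw' hwd'
      exact th_of hv hd hw' hw2' h2 (G.of_blk h1 h4 (sg_pm _) hε (by omega) hv hw' hvw hv2 hw2')

/-- **primes of small weight** -/
theorem th_wO (G : Gp F m δ i T) {v : ℕ} (hv : v.Prime) (hd : v ∣ Nat.card T)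
    (hη : v ≠ 2 → ¬ v ∣ Nat.card F → eta (ee (Nat.card F) v) + 2 ≤ m)
    (hex : ¬ (m = 4 ∧ δ = 1 ∧ Nat.card F = 3)) : Th T v := by
  by_cases hv2 : v = 2
  · subst hv2
    exact th_two G hd
  by_cases hvq : v ∣ Nat.card F
  · obtain ⟨p, hp, hpc, hpq, huniq⟩ := exists_p F
    obtain rfl := huniq v hv hvq
    exact th_char G hv hv2 hvq hd hex
  · exact th_small G hv hv2 hvq hd (hη hv2 hvq) hex

end

end Cfsg.Agent.H320.Der
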